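import Cfsg.Agent.Lib.FS.Inv
import Cfsg.Agent.Lib.Transfer.Basic

/-!
# Solvability
-/

set_option autoImplicit false
set_option linter.unusedSectionVars false

namespace Cfsg.Lib.FSet
open Subgroup Cfsg.Lib Cfsg.Lib.FT
open scoped commutatorElement ComplexConjugate

universe u
variable {G : Type u} [Group G] [Finite G] {p q : ℕ} {D : Set (Subgroup G)}
  {A B E L M M' W X Y : Subgroup G} {s t z z' : G}

theorem FS.split (h : FS p q D) (sL : SS D L A) {v : G} (hv : v ∈ L) (hv' : v ∉ Q[L]) :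
    ∃ y ∈ zpowers v, ∃ z ∈ zpowers v, zpowers y ∈ D ∧ z ∈ Q[L] ∧ y * z = v := by
  have := Fact.mk h.hp
  have := Fact.mk h.hq
  obtain ⟨x, hx, a, ha, e⟩ := h.dec sL hv
  have k : ∀ n : ℕ, v ^ n * (a ^ n)⁻¹ ∈ Q[L] := fun n => by
    induction n with
    | zero => simp
    | succ n ih =>
      have := mul_mem ih (conj_mem_of_mem_normalizer (h.nQ sL (pow_mem ha n)) hx)
      convert this using 1
      rw [pow_succ, pow_succ, ← e]; group
  have hp : v ^ p ∈ Q[L] := by simpa [h.pow_p sL.pt ha] using k p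
  obtain ⟨n, hn⟩ := h.qQ sL ⟨_, hp⟩
  replace hn : (v ^ p) ^ q ^ n = 1 := congrArg Subtype.val hn
  have c : Nat.Coprime p (q ^ n) := ((Nat.coprime_primes h.hp h.hq).2 h.pq).pow_right n
  have bz := Nat.gcd_eq_gcd_ab p (q ^ n)
  rw [c.gcd_eq_one] at bz
  have e1 : v ^ (((q ^ n : ℕ) : ℤ) * Nat.gcdB p (q ^ n)) * v ^ ((p : ℤ) * Nat.gcdA p (q ^ n)) = v := by
    rw [← zpow_add, add_comm, ← bz]; simp
  have hz : v ^ ((p : ℤ) * Nat.gcdA p (q ^ n)) ∈ Q[L] := by
    rw [zpow_mul, zpow_natCast]; exact zpow_mem hp _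
  refine ⟨_, ⟨_, rfl⟩, _, ⟨_, rfl⟩, h.pt_of_card sL ?_ (zpowers_le.2 (zpow_mem hv _)), hz, e1⟩
  rw [Nat.card_zpowers]
  refine orderOf_eq_prime ?_ fun e => hv' (by
    beta_reduce at e; rw [e, one_mul] at e1; rw [← e1]; exact hz)
  rw [← zpow_natCast, ← zpow_mul, mul_comm, ← mul_assoc, zpow_mul, zpow_mul, zpow_natCast,
    zpow_natCast, hn, one_zpow]

theorem FS.fix_two (h : FS p q D) (hA : A ∈ D) {T : Subgroup G} (hT : IsPGroup 2 T) :
    ∃ B ∈ D, T ≤ N[B] := by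
  induction T using WellFoundedLT.induction with
  | ind T ih =>
  by_cases h1 : T = ⊥
  · exact ⟨A, hA, h1 ▸ bot_le⟩
  obtain ⟨T₀, hle, hi⟩ := exists_relIndex_eq_prime hT h1
  obtain ⟨B, hB, hn⟩ := ih T₀ (lt_of_le_of_ne hle fun e => by simp [e] at hi) (hT.to_le hle)
  obtain ⟨a, ha, hx⟩ := relIndex_eq_two_iff.1 hi
  have k : ∀ b ∈ T, b •ᶜ B ≤ B ⊔ a •ᶜ B := fun b hb => by
    rcases hx _ (inv_mem hb) with ⟨e, -⟩ | ⟨e, -⟩
    · rw [← map_conj_eq_of_mem_normalizer (hn e), conj_conj, mul_inv_cancel_left,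
        map_conj_eq_of_mem_normalizer (hn e)]
      exact le_sup_right
    · rw [map_conj_eq_of_mem_normalizer (hn (inv_mem_iff.1 e))]; exact le_sup_left
  obtain ⟨C, hC, -, e⟩ := h.fix2 (h.line hB (h.inv B hB a)) hT fun b hb =>
    pg_mem_normalizer_of_conj_mem fun x hx => (show b •ᶜ (B ⊔ a •ᶜ B) ≤ _ by
      rw [conj_sup, conj_conj]; exact sup_le (k b hb) (k _ (mul_mem hb ha))) (conj_mem_conj hx b)
  exact ⟨C, hC, e⟩

namespace Cx
variable (h : Cx p q D)
include h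

theorem ne_top (s : SS D L A) : L ≠ ⊤ := fun e =>
  h.ne_bot s.pt (le_bot_iff.1 (s.le.trans (h.rad L (e ▸ inferInstance) s.solv).le))

theorem exists_inv (hA : A ∈ D) : ∃ B ∈ D, ∃ t ∈ C[B], t * t = 1 ∧ t ≠ 1 := by
  obtain ⟨S⟩ : Nonempty (Sylow 2 G) := inferInstance
  obtain ⟨B, hB, hn⟩ := h.fix_two hA S.isPGroup'
  have := Fact.mk h.hp
  by_cases hb : (S : Subgroup G) ⊓ C[B] = ⊥
  swap
  · obtain ⟨x, hx, o, -⟩ := pg_exists_fixed_of_order_p (S.isPGroup'.to_le inf_le_left)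
      IsPGroup.of_bot bot_le hb
    exact ⟨B, hB, x, hx.2, by rw [← sq, ← o, pow_orderOf_eq_one], fun e => by simp [e] at o⟩
  exfalso
  have := isCyclic_of_prime_card (h.card B hB)
  have : IsCyclic (ZMod (Nat.card B))ˣ := by rw [h.card B hB]; infer_instance
  have hc : IsCyclic (S : Subgroup G) := isCyclic_of_injective
    ((IsCyclic.mulAutMulEquiv B).toMonoidHom.comp (B.normalizerMonoidHom.comp (inclusion hn))) (by
      rw [injective_iff_map_eq_one]
      intro x hx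
      rw [MonoidHom.comp_apply, MulEquiv.coe_toMonoidHom, MulEquiv.map_eq_one_iff, MonoidHom.comp_apply,
        ← MonoidHom.mem_ker, normalizerMonoidHom_ker] at hx
      exact Subtype.ext (mem_bot.1 (hb ▸ (⟨x.2, hx⟩ : (x : G) ∈ (S : Subgroup G) ⊓ C[B]))))
  obtain ⟨P, N, hN, hc⟩ := hasNormalPComplement_two_of_isCyclic S hc
  have h1 : N = ⊥ := h.rad N hN (odd_order_solvable (by
    rw [← hc.index_eq_card]; exact Nat.odd_iff.2 (Nat.two_dvd_ne_zero.1 P.not_dvd_index)))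
  have h2 := hc.sup_eq_top
  rw [h1, bot_sup_eq] at h2
  have h3 := h.rad P (h2 ▸ inferInstance) (isSolvable_of_isPGroup P.isPGroup')
  exact h.ne_bot hA (le_bot_iff.1 (le_top.trans (h2.ge.trans h3.le)))

theorem exists_odd (h12 : One D ∨ Two D) (hs : s * s = 1) (hs1 : s ≠ 1) (hA : A ∈ D) (hB : B ∈ D)
    {v : G} (hv : v ∈ A ⊔ B) (hv' : v ∉ Q[A ⊔ B]) (hc : Commute s v) :
    ∃ X : Subgroup G, C1[s] ≤ N[X] ∧ ¬ 2 ∣ Nat.card X ∧ v ∈ X := by
  have sL := h.line hA hB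
  obtain ⟨y, hy, z, hz, hY, hzQ, e⟩ := h.split sL hv hv'
  have c1 : s ∈ C[zpowers y] := by
    obtain ⟨i, rfl⟩ := hy
    rintro _ ⟨j, rfl⟩
    exact ((hc.zpow_right i).zpow_right j).symm
  have hYL : zpowers y ≤ A ⊔ B := zpowers_le.2 (zpowers_le.2 hv hy)
  by_cases h1 : z = 1
  · rw [h1, mul_one] at e
    exact ⟨_, h.norm_genC s, h.odd (h.ss gen_gen (h.cent_ne hs1) hY (le_genC hY c1)),
      le_genC hY c1 (e ▸ mem_zpowers y)⟩
  have hzU : z ∈ U[A ⊔ B] := h.mem_U (sL.pt' hY hYL) hzQ (centralizer_le_normalizer _ (by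
    obtain ⟨i, rfl⟩ := hy
    obtain ⟨k, rfl⟩ := hz
    rintro _ ⟨j, rfl⟩
    exact ((Commute.zpow_zpow_self v i k).zpow_left j)))
  rcases h12 with h2 | h2
  · exact absurd (mem_bot.1 (h2 A hA B hB ▸ hzU)) h1
  have b := h.bad_of h2 sL.sub (h.ne_top sL) hzU h1
  have hle := h.le_cent_gen h2 sL.sub (h.ne_top sL) hzU
  refine ⟨_, h.cent_le_norm h2 hs hs1 hY c1 b (hYL.trans hle) ?_,
    h.odd (h.bad_ss b hY (hYL.trans hle)), hle hv⟩
  obtain ⟨k, rfl⟩ := hz
  exact mem_centralizer_singleton_iff.2 (hc.zpow_right k).symm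

theorem char_eq (h12 : One D ∨ Two D) (ht : t * t = 1) (ht1 : t ≠ 1) (hA : A ∈ D) (hc : t ∈ C[A])
    (hB : B ∈ D) {b : G} (hb : b ∈ B) (hb1 : b ≠ 1) {χ : G → ℂ} (hχ : IsIrrCharacter G χ)
    (h0 : InB0 2 χ) : χ (b * t) = χ t := by
  have sL := h.line hB (h.inv B hB t)
  have hn := h.line_norm ht B
  obtain ⟨Y, hY, hYL, hc'⟩ := h.fix_pt ht hA hc sL hn
  have hbL : b ∈ B ⊔ t •ᶜ B := mem_sup_left hb
  have odd : ∀ c ∈ B ⊔ t •ᶜ B, ¬ 2 ∣ orderOf c :=
    fun c hc e => h.odd sL (e.trans (orderOf_dvd_natCard _ hc))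
  have ti : t⁻¹ = t := inv_eq_of_mul_eq_one_right ht
  have e2 : (b * t) ^ 2 = b * (t * b * t⁻¹ * b⁻¹) * b⁻¹ * (b * b) := by rw [ti, sq]; group
  have hQ := conj_mem_of_mem_normalizer (le_norm_Q _ hbL) (h.comm_mem_Q (sL.pt' hY hYL) hc' hn hbL)
  have g2 : (b * t) ^ 2 ∈ B ⊔ t •ᶜ B := e2 ▸ mul_mem (Q_le _ hQ) (mul_mem hbL hbL)
  obtain ⟨j, hj⟩ := Nat.odd_iff.2 (Nat.two_dvd_ne_zero.1 (odd _ g2))
  have g3 := pow_orderOf_eq_one ((b * t) ^ 2)
  rw [hj, ← pow_mul] at g3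
  set g := b * t with hg
  have hs : g ^ (2 * j + 1) * g ^ (2 * j + 1) = 1 := by rw [← pow_add, ← two_mul, g3]
  have e3 : g ^ (2 * j + 1) * t = (g ^ 2) ^ j * b := by
    rw [pow_succ, pow_mul, mul_assoc, hg, mul_assoc b, ht, mul_one]
  obtain ⟨i, hi⟩ := exists_conj_of_odd (t := g ^ (2 * j + 1)) (t' := t) (by rw [sq, hs]) (by rw [sq, ht])
    (odd _ (e3 ▸ mul_mem (pow_mem g2 j) hbL))
  have hs1 : g ^ (2 * j + 1) ≠ 1 := by rw [← hi]; simpa using ht1
  obtain ⟨X, x1, x2, x3⟩ := h.exists_odd h12 hs hs1 hB (h.inv B hB t) (pow_mem g2 (j + 1))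
    (fun e => by
      have e4 : (g ^ 2) ^ (j + 1) * (g ^ 2) ^ (j + 1) = g ^ 2 := by
        rw [← pow_add, ← pow_mul, show 2 * (j + 1 + (j + 1)) = 2 * (2 * j + 1) + 2 by ring, pow_add, g3,
          one_mul]
      have e5 := mul_mem (inv_mem hQ) (e2 ▸ e4 ▸ mul_mem e e)
      rw [inv_mul_cancel_left] at e5
      exact odd b hbL (orderOf_eq_prime (by
        rw [sq]; exact h.eq_one hB (h.qQ sL) (mul_mem hb hb) e5) hb1).symm.dvd)
    (by rw [← pow_mul]; exact Commute.pow_pow_self g _ _)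
  have e4 : g = g ^ (2 * j + 1) * (g ^ 2) ^ (j + 1) := by
    rw [← pow_mul, ← pow_add, show 2 * j + 1 + 2 * (j + 1) = 2 * (2 * j + 1) + 1 by ring, pow_succ, g3,
      one_mul]
  have := normal_subgroupOf_of_le_normalizer x1
  rw [e4, h0.apply_mul_of_mem_normal hχ (k := 1) (by rw [pow_one, sq, hs])
    (X.subgroupOf C1[g ^ (2 * j + 1)]) (fun e => x2 (e.trans (card_comap_dvd_of_injective _ _
      (subtype_injective _)))) (by
      rw [subgroupOf_map_subtype]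
      exact ⟨x3, mem_centralizer_singleton_iff.2 (by
        rw [← pow_mul]; exact Commute.pow_pow_self g _ _)⟩), ← hi, hχ.isClassFunction]

theorem false (h12 : One D ∨ Two D) (hA : A ∈ D) : False := by
  classical
  have := Fintype.ofFinite G
  obtain ⟨B, hB, t, hc, ht, ht1⟩ := h.exists_inv hA
  obtain ⟨⟨a, ha⟩, ha1⟩ := ne_bot_iff_exists_ne_one.1 (h.ne_bot hA)
  replace ha1 : a ≠ 1 := fun e => ha1 (Subtype.ext e)
  have key : ∀ χ : G → ℂ, IsIrrCharacter G χ → InB0 2 χ → χ t = 0 ∨ χ t = χ 1 := by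
    intro χ hχ h0
    by_cases h1 : χ t = 0
    · exact Or.inl h1
    right
    have e1 := hχ.sum_conj_mul a t
    simp only [fun i : G => h.char_eq h12 ht ht1 hB hc (h.inv A hA i) (conj_mem_conj ha i)
      (by simpa using ha1) hχ h0, Finset.sum_const, Finset.card_univ, nsmul_eq_mul,
      ← Nat.card_eq_fintype_card] at e1
    have e2 : χ a = χ 1 := by
      apply mul_left_cancel₀ (natCard_complex_ne_zero G)
      apply mul_right_cancel₀ h1
      linear_combination -e1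
    have := hχ.isClassFunction.funKer_normal
    have e3 : A ≤ funKer χ := h.eq_zpowers hA ha ha1 ▸ zpowers_le.2 (hχ.isCharacter.mem_funKer.2 e2)
    refine hχ.isCharacter.mem_funKer.1 (sub_le h.top (fun C hC _ => ?_) (mem_top t))
    obtain ⟨x, rfl⟩ := h.exists_conj hA hC
    exact map_conj_le_of_mem_normalizer e3 (by rw [normalizer_eq_top]; trivial)
  have hns : ¬ PRel 2 t 1 := by
    rw [pRel_one_iff', orderOf_eq_prime (by rw [sq, ht]) ht1]; simp
  have h1 := block_orthogonality' (p := 2) (isIrrCharacter_one (G := G)) hns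
  have h2 := congrArg Complex.re h1
  rw [Complex.re_sum, Complex.zero_re, Finset.sum_eq_zero_iff_of_nonneg] at h2
  · have := h2 ⟨1, isIrrCharacter_one⟩ (by simp [SameBlock.refl])
    simp at this
  · intro χ hχ
    rcases key χ.1 χ.2 (Finset.mem_filter.1 hχ).2 with e | e
    · simp [e]
    · rw [e, Complex.mul_conj, Complex.ofReal_re]; exact Complex.normSq_nonneg _

end Cx

theorem solv_aux (p q n : ℕ) : ∀ (G : Type u) [Group G] [Finite G] (D : Set (Subgroup G)),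
    Nat.card G = n → FS p q D → gen D ⊤ = ⊤ → One D ∨ Two D → Group.IsSolvable G := by
  induction n using Nat.strong_induction_on with
  | _ n ih =>
  intro G _ _ D hn h hg h12
  subst hn
  by_contra hns
  obtain ⟨A, hA⟩ : D.Nonempty := by
    by_contra hD
    have : (⊤ : Subgroup G) ≤ ⊥ := sub_le hg fun A hA _ => absurd ⟨A, hA⟩ hD
    have : Subsingleton G := ⟨fun a b => (mem_bot.1 (this (mem_top a))).trans (mem_bot.1 (this (mem_top b))).symm⟩
    exact hns inferInstance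
  refine Cx.false ⟨h, hg, fun W hW hne => ?_, fun N hN hs => ?_⟩ h12 hA
  · exact ih _ (lt_of_le_of_ne W.card_le_card_group (fun e => hne (W.eq_top_of_card_eq e))) W _ rfl
      (h.comap _ W.subtype_injective) (gen_subtype hW)
      (h12.imp (·.comap _ W.subtype_injective) (·.comap _ W.subtype_injective))
  by_contra hN1
  have hf := QuotientGroup.mk'_surjective N
  by_cases hAN : A ≤ N
  · have : ⊤ ≤ N := sub_le hg fun C hC _ => by
      obtain ⟨x, rfl⟩ := h.exists_conj hA hC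
      exact map_conj_le_of_mem_normalizer hAN (by rw [normalizer_eq_top]; trivial)
    exact hns ((isSolvable_congr topEquiv).1 (isSolvable_of_le this hs))
  exact hns (isSolvable_of_normal_quotient N hs (ih _ (card_quot_lt N hN1) (G ⧸ N) _ rfl
    (h.map _ hf (h.not_le_of_normal hA hAN)) (gen_map_top _ hf hg)
    (h12.imp (·.map _) (·.map _ (by rwa [QuotientGroup.ker_mk'])))))

theorem FS.solvable (h : FS p q D) (hg : gen D ⊤ = ⊤) (h12 : One D ∨ Two D) : Group.IsSolvable G :=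
  solv_aux p q _ G D rfl h hg h12

end Cfsg.Lib.FSet
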