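import Cfsg.Agent.Lib.FS.Cx

/-!
# A proper subspace meeting `M` and normalized by `1 ≠ z ∈ U(M)` lies in `M`
-/

set_option autoImplicit false
set_option linter.unusedSectionVars false

namespace Cfsg.Lib.FSet.Cx
open Subgroup Cfsg.Lib Cfsg.Lib.FT
open scoped commutatorElement

universe u
variable {G : Type u} [Group G] [Finite G] {p q : ℕ} {D : Set (Subgroup G)}
  {A B E M M' W X Y : Subgroup G} {z z' : G} (h : Cx p q D) (h2 : Two D)
include h h2

theorem half (b : Bad D M z) (b' : Bad D M' z') (hne : M ≠ M') (hz' : z' ∈ N[M]) (hA : A ∈ D)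
    (h1 : A ≤ M) (h1' : A ≤ M') : ∃ W₁, gen D W₁ = W₁ ∧ gen D (M ⊓ M') ≤ W₁ ∧ W₁ ≤ M ∧ ¬ W₁ ≤ M' ∧
      W₁ ≤ N[Q[gen D (M ⊓ M')] ⊔ (U[M] ⊓ N[M']) ⊔ (U[M'] ⊓ N[M])] := by
  set E := gen D (M ⊓ M') with hE
  have s := h.bad_ss b hA h1
  have s' := h.bad_ss b' hA h1'
  have hEM : E ≤ M := gen_le.trans inf_le_left
  have hEM' : E ≤ M' := gen_le.trans inf_le_right
  have hAE : A ≤ E := le_gen hA (le_inf h1 h1')
  have hME : ¬ M ≤ E := fun e => hne (le_antisymm (e.trans hEM')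
    (h.bad_max h2 b b'.sub (h.bad_ne b') (e.trans hEM')))
  set U₁ := U[M] ⊓ N[M']
  set U₂ := U[M'] ⊓ N[M]
  have c2 : U₂ ≤ C[E] := inf_le_left.trans ((h2.cent s').trans (centralizer_mono hEM'))
  obtain ⟨W₁, w1, w2, w3, w4, w5⟩ := h.grow h2 s gen_gen hAE hEM hME (T := U₂)
    ((h.qQ s').to_le (inf_le_left.trans (U_le M'))) inf_le_right c2
  have s₁ := s.of_le w1 (hAE.trans w2) w3
  have ab : ∀ j ∈ Q[E], ∀ e ∈ Q[E], j * e = e * j := fun j hj e he => by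
    by_contra hc
    have := commutator_mem_commutator hj he
    exact hne (h.bad_uniq h2 b b' (U_mono hEM this) (U_mono hEM' this)
      (by rwa [Ne, commutatorElement_eq_one_iff_mul_comm]))
  have dec : ∀ x ∈ Q[W₁], ∀ u ∈ U₂, ∃ j ∈ Q[E], ∃ c ∈ U[M], ⁅x, u⁆ = j * c := fun x hx u hu => by
    obtain ⟨j, hj, c, hc, e⟩ := (mem_sup_of_le_normalizer' ((Q_le E).trans
      (hEM.trans (le_norm_U M)))).1 (w5 x hx u hu)
    exact ⟨j, hj, c, hc, e.symm⟩
  set J := Q[E] ⊔ U₁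
  have hJ : J ≤ M := sup_le ((Q_le E).trans hEM) (inf_le_left.trans ((U_le M).trans (Q_le M)))
  have n1 : U₁ ≤ N[Q[E]] := inf_le_left.trans ((h2.cent s).trans ((centralizer_mono
    ((Q_le E).trans hEM)).trans (centralizer_le_normalizer _)))
  have nU : U[M] ≤ N[J] := (h2.cent s).trans ((centralizer_mono hJ).trans (centralizer_le_normalizer _))
  have nA : A ≤ N[J] := le_normalizer_sup (hAE.trans (le_norm_Q E)) (le_normalizer_inf
    (h1.trans (le_norm_U M)) (h1'.trans (le_normalizer.trans le_normalizer)))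
  have n2 : U₂ ≤ N[J] := le_normalizer_sup (c2.trans ((centralizer_le_normalizer _).trans (norm_Q E)))
    (le_normalizer_inf (inf_le_right.trans (norm_U M)) (inf_le_left.trans ((U_le M').trans
      ((Q_le M').trans (le_normalizer.trans le_normalizer)))))
  have nQ : Q[W₁] ≤ N[J] := fun x hx => by
    have hxM := Q_mono w3 hx
    show x ∈ N[Q[E] ⊔ U₁]
    rw [sup_comm]
    refine norm_sup (J := U₁) (T := Q[E]) ?_ ?_ fun e he => ?_
    · exact (Q_le E).trans (le_normalizer_inf (hEM.trans (le_norm_U M))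
        (hEM'.trans (le_normalizer.trans le_normalizer)))
    · exact centralizer_le_normalizer _ fun c hc => h2.comm s hc.1 (Q_le M hxM)
    have hc : ⁅x, e⁆ ∈ U[M] := commutator_mem_commutator hxM (Q_mono hEM he)
    refine ⟨hc, h.bad_norm b' (mem_centralizer_singleton_iff.2 ?_)⟩
    obtain ⟨j, hj, c, hc', e1⟩ := dec x hx z' ⟨b'.mem, hz'⟩
    have e2 : z' * x * z'⁻¹ = (j * c)⁻¹ * x := by rw [← e1, commutatorElement_def]; group
    have e3 : z' * e * z'⁻¹ = e := by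
      rw [h2.comm s' b'.mem (hEM' (Q_le E he)), mul_inv_cancel_right]
    have e4 : Commute (j * c) e := Commute.mul_left (ab j hj e he) (h2.comm s hc' (hEM (Q_le E he)))
    have e5 : Commute ⁅x, e⁆ (j * c) :=
      h2.comm s hc (mul_mem (hEM (Q_le E hj)) (Q_le M (U_le M hc')))
    have : z' * ⁅x, e⁆ * z'⁻¹ = ⁅x, e⁆ := by
      rw [conjugate_commutatorElement, e2, e3, commutatorElement_mul_left_eq_conj_mul,
        commutatorElement_eq_one_iff_commute.2 e4.inv_left, mul_one, inv_inv, mul_assoc, e5.eq]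
      group
    rw [← mul_inv_eq_iff_eq_mul.1 this]
  have nA' : A ≤ N[J ⊔ U₂] := le_normalizer_sup nA (le_centralizer_iff.1 (c2.trans
    (centralizer_mono hAE)) |>.trans (centralizer_le_normalizer _))
  refine ⟨W₁, w1, w2, w3, fun e => w4 (le_gen_of_sub w1 (le_inf w3 e)),
    h.le_of s₁ ((h.le_QA s₁).trans (commutator_le.2 fun x hx a ha => ?_)) nA'⟩
  refine norm_sup n2 (by
    rw [commutatorElement_def]
    exact mul_mem (mul_mem (mul_mem (nQ hx) (nA ha)) (inv_mem (nQ hx))) (inv_mem (nA ha))) fun u hu => ?_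
  obtain ⟨j, hj, c, hc, e⟩ := dec x hx u hu
  exact hom_arg (nQ hx) (nA ha) (nU hc) (c2 hu a (hAE ha)) (h2.comm s hc (Q_le M (Q_mono w3 hx)))
    (h2.comm s hc (h1 ha)) (mem_sup_left hj) e

/-- a configuration -/
structure Cf (D : Set (Subgroup G)) (M : Subgroup G) (z : G) (W A : Subgroup G) : Prop where
  bad : Bad D M z
  sub : gen D W = W
  ne : W ≠ ⊤
  norm : z ∈ N[W]
  pt : A ∈ D
  le : A ≤ M
  le' : A ≤ W
  nle : ¬ W ≤ M

theorem exists_fix (s : SS D M A) (hz : z ∈ U[M]) {R : Subgroup G} (hR : IsPGroup q R) (h1 : R ≠ ⊥)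
    (hn : z ∈ N[R]) : ∃ x ∈ R, x ≠ 1 ∧ x ∈ C1[z] := by
  have := Fact.mk h.hq
  obtain ⟨x, hx, o, hc⟩ := pg_exists_fixed_of_order_p hR ((h.qQ s).to_le
    (zpowers_le.2 (U_le M hz))) (zpowers_le.2 hn) h1
  refine ⟨x, hx, fun e => h.hq.one_lt.ne ?_, by rwa [centralizer_singleton_eq_zpowers]⟩
  rw [← o, e, orderOf_one]

theorem sym (c : Cf D M z M' A) (b' : Bad D M' z')
    (ih : ∀ W, Cf D M z W A → gen D (M ⊓ M') ≤ gen D (M ⊓ W) → gen D (M ⊓ W) ≤ gen D (M ⊓ M')) :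
    False := by
  have hne : M ≠ M' := fun e => c.nle e.ge
  have s := h.bad_ss c.bad c.pt c.le
  have s' := h.bad_ss b' c.pt c.le'
  obtain ⟨y, hy, hy1, hyz⟩ := h.exists_fix h2 s c.bad.mem ((h.qQ s').to_le (U_le M'))
    (fun e => b'.ne (mem_bot.1 (e ▸ b'.mem))) (norm_U M' c.norm)
  have b'' := h.bad_other h2 b' hy hy1
  obtain ⟨W₁, w1, w2, w3, w4, w5⟩ := h.half h2 c.bad b'' hne (h.bad_norm c.bad hyz) c.pt c.le c.le'
  obtain ⟨W₂, v1, v2, v3, v4, v5⟩ := h.half h2 b'' c.bad hne.symm c.norm c.pt c.le' c.le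
  rw [inf_comm M' M, sup_right_comm] at v5
  set R := Q[gen D (M ⊓ M')] ⊔ (U[M] ⊓ N[M']) ⊔ (U[M'] ⊓ N[M])
  have hz : z ∈ R := mem_sup_left (mem_sup_right ⟨c.bad.mem, c.norm⟩)
  have hR : IsPGroup q R := ((h.qQ s).to_sup_of_normal_left' ((h.qQ s').to_le (inf_le_left.trans
    (U_le M'))) (inf_le_right.trans (norm_Q M))).to_le (sup_le_sup_right (sup_le
      (Q_mono (gen_le.trans inf_le_left)) (inf_le_left.trans (U_le M))) _)
  have hA : A ≤ gen D (M ⊓ M') := le_gen c.pt (le_inf c.le c.le')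
  have k1 := le_gen_of_sub w1 (le_inf w3 (le_gen_of_sub w1 w5))
  exact w4 (k1.trans ((ih _ ⟨c.bad, gen_gen, h.norm_ne_q (fun e => c.bad.ne (mem_bot.1 (e ▸ hz))) hR,
    h.norm_gen _ (le_normalizer (le_normalizer hz)), c.pt, c.le,
    hA.trans (w2.trans (le_gen_of_sub w1 w5)), fun e => v4 ((le_gen_of_sub v1 v5).trans e)⟩
    (w2.trans k1)).trans (gen_le.trans inf_le_right)))

theorem nonab (c : Cf D M z W A) (hU : U[W] ≠ ⊥)
    (ih : ∀ X, Cf D M z X A → gen D (M ⊓ W) ≤ gen D (M ⊓ X) → gen D (M ⊓ X) ≤ gen D (M ⊓ W)) :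
    False := by
  obtain ⟨⟨y, hy⟩, hy1⟩ := ne_bot_iff_exists_ne_one.1 hU
  replace hy1 : y ≠ 1 := fun e => hy1 (Subtype.ext e)
  have b' := h.bad_of h2 c.sub c.ne hy hy1
  have hle := h.le_cent_gen h2 c.sub c.ne hy
  have hz : z ∈ N[gen D C1[y]] := pg_mem_normalizer_of_conj_mem fun x hx =>
    h.le_cent_gen h2 (h.sub_conj gen_gen z) (by rw [Ne, conj_eq_top_iff]; exact h.bad_ne b')
      (U_mono ((map_conj_eq_of_mem_normalizer c.norm).ge.trans (conj_le_conj_iff.2 hle)) hy)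
      (conj_mem_conj hx z)
  have c' : Cf D M z (gen D C1[y]) A :=
    ⟨c.bad, gen_gen, h.bad_ne b', hz, c.pt, c.le, c.le'.trans hle, fun e => c.nle (hle.trans e)⟩
  have k := gen_mono (D := D) (inf_le_inf_left M hle)
  exact h.sym h2 c' b' fun X hX e => (ih X hX (k.trans e)).trans k

theorem not_cf (c : Cf D M z W A) : False := by
  generalize hE : gen D (M ⊓ W) = E
  induction E using WellFoundedGT.induction generalizing W with
  | ind E ih0 =>
  subst hE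
  have ih : ∀ X, Cf D M z X A → gen D (M ⊓ W) ≤ gen D (M ⊓ X) → gen D (M ⊓ X) ≤ gen D (M ⊓ W) :=
    fun X hX e => (e.eq_or_lt.resolve_right fun e' => ih0 _ e' hX rfl).ge
  by_cases hU : U[W] = ⊥
  swap
  · exact h.nonab h2 c hU ih
  set E := gen D (M ⊓ W) with hE
  have s := h.bad_ss c.bad c.pt c.le
  have sW := h.ss c.sub c.ne c.pt c.le'
  have hEM : E ≤ M := gen_le.trans inf_le_left
  have hEW : E ≤ W := gen_le.trans inf_le_right
  have hAE : A ≤ E := le_gen c.pt (le_inf c.le c.le')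
  have cU : U[M] ≤ C[E] := (h2.cent s).trans (centralizer_mono hEM)
  have hQ : Q[E] ≠ ⊥ := fun e => by
    obtain ⟨x, hx, hx1, hxz⟩ := h.exists_fix h2 s c.bad.mem (h.qQ sW)
      (fun e => c.nle ((h.eq_of_Q_bot sW e).le.trans c.le)) (norm_Q W c.norm)
    have hB := h.inv A c.pt x
    have := h.mem_of_conj_le sW gen_gen hAE hEW hx (le_gen hB (le_inf (h.bad_pt c.bad c.pt c.le hB (by
      rw [← conj_eq_iff_mem_normalizer, conj_conj, ← mem_centralizer_singleton_iff.1 hxz, ← conj_conj,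
        conj_eq_of_mem_centralizer (centralizer_mono hAE (cU c.bad.mem))]))
      (conj_le_of_mem c.le' (Q_le W hx))))
    rw [e, hU, bot_sup_eq] at this
    exact hx1 (mem_bot.1 this)
  have hWX : W ≤ gen D N[Q[E]] := le_gen_of_sub c.sub (h.le_of sW
    (le_norm_of_comm_le (hU ▸ bot_le) (Q_mono hEW)) (hAE.trans (le_norm_Q E)))
  have nU : U[M] ≤ N[Q[E]] := cU.trans ((centralizer_le_normalizer _).trans (norm_Q E))
  have nU' : U[M] ≤ N[gen D N[Q[E]]] := nU.trans (le_normalizer.trans (h.norm_gen _))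
  have qE := (h.qQ s).to_le (Q_mono hEM)
  set X := gen D N[Q[E]]
  have cX : Cf D M z X A := ⟨c.bad, gen_gen, h.norm_ne_q hQ qE, nU' c.bad.mem, c.pt, c.le,
    c.le'.trans hWX, fun e => c.nle (hWX.trans e)⟩
  have k := gen_mono (D := D) (inf_le_inf_left M hWX)
  by_cases hUX : U[X] = ⊥
  swap
  · exact h.nonab h2 cX hUX fun Y hY e => (ih Y hY (k.trans e)).trans k
  have sX := h.ss cX.sub cX.ne c.pt cX.le'
  obtain ⟨W₁, w1, w2, w3, w4, w5⟩ := h.grow h2 sX gen_gen hAE (hEW.trans hWX)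
    (fun e => cX.nle (e.trans hEM)) ((h.qQ s).to_le (U_le M)) nU' cU
  rw [hUX, sup_bot_eq] at w5
  have hR : Q[E] ⊔ U[M] ≤ Q[M] := sup_le (Q_mono hEM) (U_le M)
  have nA : A ≤ N[Q[E] ⊔ U[M]] :=
    le_normalizer_sup (hAE.trans (le_norm_Q E)) (c.le.trans (le_norm_U M))
  have e1 : W₁ ≤ N[Q[E] ⊔ U[M]] := h.le_of (sX.of_le w1 (hAE.trans w2) w3)
    (fun x hx => norm_sup nU (gen_le (w3 (Q_le W₁ hx))) (w5 x hx)) nA
  have e2 : M ≤ N[Q[E] ⊔ U[M]] := h.le_of s (le_norm_of_comm_le le_sup_right hR) nA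
  have e3 := h.bad_max h2 c.bad gen_gen (h.norm_ne_q (fun e => hQ (le_bot_iff.1 (e ▸ le_sup_left)))
    ((h.qQ s).to_le hR)) (le_gen_of_sub c.bad.sub e2)
  exact w4 ((le_gen_of_sub w1 (le_inf ((le_gen_of_sub w1 e1).trans e3) w3)).trans (ih X cX k))

theorem claimT (b : Bad D M z) (hW : gen D W = W) (hne : W ≠ ⊤) (hz : z ∈ N[W]) (hA : A ∈ D)
    (h1 : A ≤ M) (h1' : A ≤ W) : W ≤ M := by
  by_contra hc
  exact h.not_cf h2 ⟨b, hW, hne, hz, hA, h1, h1', hc⟩

end Cfsg.Lib.FSet.Cx
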