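import Cfsg.Agent.Lib.FS.Solv

/-!
# The minimal counterexample; maximal subspaces with `U ≠ 1`
-/

set_option autoImplicit false
set_option linter.unusedSectionVars false

namespace Cfsg.Lib.FSet
open Subgroup Cfsg.Lib Cfsg.Lib.FT
open scoped commutatorElement

universe u
variable {G : Type u} [Group G] [Finite G] {p q : ℕ} {D : Set (Subgroup G)}
  {A B E M M' W X Y : Subgroup G} {z z' : G}

theorem hom_arg {J : Subgroup G} {x a c u j : G} (hx : x ∈ N[J]) (ha : a ∈ N[J]) (hc : c ∈ N[J])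
    (au : a * u = u * a) (cx : c * x = x * c) (ca : c * a = a * c) (hj : j ∈ J)
    (e : ⁅x, u⁆ = j * c) : ⁅⁅x, a⁆, u⁆ ∈ J := by
  have cx' : Commute c x := cx
  have ca' : Commute c a := ca
  have au' : Commute a u := au
  have e0 : u = c⁻¹ * j⁻¹ * (x * u * x⁻¹) := by
    rw [← mul_inv_rev, ← e, commutatorElement_def]; group
  have e1 : x⁻¹ * u * x = c⁻¹ * (x⁻¹ * j⁻¹ * x) * u := by
    calc x⁻¹ * u * x = x⁻¹ * (c⁻¹ * j⁻¹ * (x * u * x⁻¹)) * x := by rw [← e0]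
      _ = (x⁻¹ * c⁻¹) * j⁻¹ * x * u := by group
      _ = _ := by rw [← cx'.inv_inv.eq]; group
  have e2 : ⁅⁅x, a⁆, u⁆ = c⁻¹ * (x * (a * (x⁻¹ * j⁻¹ * x) * a⁻¹) * x⁻¹ * j) * c := by
    calc ⁅⁅x, a⁆, u⁆ = x * a * x⁻¹ * (a⁻¹ * u) * a * x * a⁻¹ * x⁻¹ * u⁻¹ := by
          simp only [commutatorElement_def]; group
      _ = x * a * (x⁻¹ * u * x) * a⁻¹ * x⁻¹ * u⁻¹ := by rw [au'.inv_left.eq]; group
      _ = (x * a * c⁻¹) * (x⁻¹ * j⁻¹ * x) * (u * a⁻¹) * x⁻¹ * u⁻¹ := by rw [e1]; group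
      _ = c⁻¹ * (x * (a * (x⁻¹ * j⁻¹ * x) * a⁻¹) * x⁻¹) * ⁅x, u⁆ := by
          rw [← (cx'.mul_right ca').inv_left.eq, ← au'.inv_left.eq, commutatorElement_def]; group
      _ = _ := by rw [e]; group
  rw [e2]
  exact conj_mem_of_mem_normalizer' hc (mul_mem (conj_mem_of_mem_normalizer hx
    (conj_mem_of_mem_normalizer ha (conj_mem_of_mem_normalizer' hx (inv_mem hj)))) hj)

theorem norm_sup {J T : Subgroup G} (hT : T ≤ N[J]) {y : G} (hy : y ∈ N[J])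
    (h : ∀ u ∈ T, ⁅y, u⁆ ∈ J) : y ∈ N[J ⊔ T] :=
  pg_mem_normalizer_of_conj_mem fun r hr => by
    obtain ⟨j, hj, u, hu, rfl⟩ := (mem_sup_of_le_normalizer hT).1 hr
    have := mul_mem_sup (mul_mem (conj_mem_of_mem_normalizer hy hj) (h u hu)) hu
    rw [commutatorElement_def] at this
    convert this using 1; group

theorem Two.cent (h2 : Two D) (s : SS D W A) : U[W] ≤ C[W] :=
  le_centralizer_of_commutator_eq_bot (h2 W s.sub s.solv)

theorem Two.comm (h2 : Two D) (s : SS D W A) {c w : G} (hc : c ∈ U[W]) (hw : w ∈ W) :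
    c * w = w * c := (h2.cent s hc w hw).symm

theorem FS.conj_le (h : FS p q D) (h2 : Two D) (s : SS D W A) (h1 : A ≤ X) {x : G}
    (hXW : X ≤ W) (hx : x ∈ Q[X] ⊔ U[W]) : x •ᶜ A ≤ X := by
  obtain ⟨e, he, c, hc, rfl⟩ := (mem_sup_of_le_normalizer' ((Q_le X).trans
    (hXW.trans (le_norm_U W)))).1 hx
  rw [← conj_conj, conj_eq_of_mem_centralizer (centralizer_mono s.le (h2.cent s hc))]
  exact conj_le_of_mem h1 (Q_le X he)

/-- growing an invariant subspace -/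
theorem FS.grow (h : FS p q D) (h2 : Two D) (s : SS D W A) (hE : gen D E = E) (h1 : A ≤ E)
    (hEW : E ≤ W) (hne : ¬ W ≤ E) {T : Subgroup G} (hT : IsPGroup q T) (hn : T ≤ N[W])
    (hc : T ≤ C[E]) : ∃ W₁, gen D W₁ = W₁ ∧ E ≤ W₁ ∧ W₁ ≤ W ∧ ¬ W₁ ≤ E ∧
      ∀ x ∈ Q[W₁], ∀ u ∈ T, ⁅x, u⁆ ∈ Q[E] ⊔ U[W] := by
  have := Fact.mk h.hq
  set R := Q[E] ⊔ U[W] with hR
  have hRQ : R ≤ Q[W] := sup_le (Q_mono hEW) (U_le W)
  have nQ : Q[W] ≤ N[R] := le_norm_of_comm_le le_sup_right hRQ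
  have nT : T ≤ N[R] := le_normalizer_sup
    (hc.trans ((centralizer_le_normalizer _).trans (norm_Q E))) (hn.trans (norm_U W))
  have nA : A ≤ N[R] := le_normalizer_sup (h1.trans (le_norm_Q E)) (s.le.trans (le_norm_U W))
  have hlt : R < Q[W] := lt_of_le_of_ne hRQ fun e => hne (sub_le s.sub fun B hB hle => by
    obtain ⟨x, hx, rfl⟩ := h.conj_pt s (h.card B hB) hle
    exact h.conj_le h2 s h1 hEW (e.ge hx))
  obtain ⟨x, hx, hx', -, hxT⟩ := pg_exists_fixed_mod (h.qQ s) hT (hn.trans (norm_Q W)) hlt nQ nT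
  set R₁ := Q[W] ⊓ commInto R T
  have nA₁ : A ≤ N[R₁] := fun a ha => pg_mem_normalizer_of_conj_mem fun y hy => by
    refine ⟨conj_mem_of_mem_normalizer (h.nQ s ha) hy.1,
      mul_mem (mul_mem (nA ha) hy.2.1) (inv_mem (nA ha)), fun u hu => ?_⟩
    have := conj_mem_of_mem_normalizer (nA ha) (hy.2.2 u hu)
    rwa [conjugate_commutatorElement, hc hu a (h1 ha), mul_inv_cancel_right] at this
  have hle : R₁ ⊔ A ≤ W := sup_le (inf_le_left.trans (Q_le W)) s.le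
  refine ⟨gen D (R₁ ⊔ A), gen_gen, le_gen_of_sub hE (h.le_of (s.of_le hE h1 hEW) ?_ le_sup_right),
    gen_le.trans hle, fun e => hx' ?_, fun y hy u hu => ?_⟩
  · refine le_trans (fun y hy => ?_) (le_sup_left : R₁ ≤ _)
    refine ⟨Q_mono hEW hy, nQ (Q_mono hEW hy), fun u hu => ?_⟩
    rw [commutatorElement_eq_one_iff_mul_comm.2 (hc hu y (Q_le E hy))]; exact one_mem _
  · exact h.mem_of_conj_le s hE h1 hEW hx ((le_gen (h.inv A s.pt x) (conj_le_of_mem le_sup_right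
      (mem_sup_left (⟨hx, nQ hx, hxT⟩ : x ∈ R₁)))).trans e)
  · exact (h.Q_sup_le s.pt nA₁ (Q_mono gen_le hy)).2.2 u hu

/-- the minimal counterexample -/
structure Cx (p q : ℕ) (D : Set (Subgroup G)) : Prop extends FS p q D where
  top : gen D ⊤ = ⊤
  prop : ∀ W, gen D W = W → W ≠ ⊤ → Group.IsSolvable W
  rad : ∀ N : Subgroup G, N.Normal → Group.IsSolvable N → N = ⊥

/-- `M` is the subspace fixed by `z ∈ U(M)` -/
structure Bad (D : Set (Subgroup G)) (M : Subgroup G) (z : G) : Prop where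
  ne : z ≠ 1
  mem : z ∈ U[M]
  eq : gen D C1[z] = M

theorem Bad.sub (b : Bad D M z) : gen D M = M := by rw [← b.eq, gen_gen]

namespace Cx
variable (h : Cx p q D)
include h

theorem norm_ne {R : Subgroup G} (hR : R ≠ ⊥) (hs : Group.IsSolvable R) : gen D N[R] ≠ ⊤ :=
  fun e => hR (h.rad R (normal_of_top_le_normalizer (e.ge.trans gen_le)) hs)

theorem norm_ne_q {R : Subgroup G} (hR : R ≠ ⊥) (hs : IsPGroup q R) : gen D N[R] ≠ ⊤ :=
  have := Fact.mk h.hq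
  h.norm_ne hR (isSolvable_of_isPGroup hs)

theorem cent_ne (hz : z ≠ 1) : gen D C1[z] ≠ ⊤ := fun e =>
  h.norm_ne (R := zpowers z) (by simpa using hz) inferInstance (top_le_iff.1 (e.ge.trans (gen_mono
    ((centralizer_singleton_eq_zpowers z).le.trans (centralizer_le_normalizer _)))))

theorem ss (hW : gen D W = W) (hne : W ≠ ⊤) (hA : A ∈ D) (hle : A ≤ W) : SS D W A :=
  ⟨hW, h.prop W hW hne, hA, hle⟩

theorem bad_ne (b : Bad D M z) : M ≠ ⊤ := b.eq ▸ h.cent_ne b.ne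

theorem bad_ss (b : Bad D M z) (hA : A ∈ D) (hle : A ≤ M) : SS D M A := h.ss b.sub (h.bad_ne b) hA hle

theorem bad_norm (b : Bad D M z) : C1[z] ≤ N[M] := le_normalizer.trans (b.eq ▸ h.norm_gen _)

theorem bad_conj (b : Bad D M z) (g : G) : Bad D (g •ᶜ M) (g * z * g⁻¹) :=
  ⟨by simpa using b.ne, by rw [← conj_commutator, ← conj_commutator]; exact conj_mem_conj b.mem g,
    by rw [← conj_centralizer_singleton, ← h.gen_conj, b.eq]⟩

theorem bad_pt (b : Bad D M z) (hA : A ∈ D) (hle : A ≤ M) (hB : B ∈ D) (hz : z ∈ N[B]) : B ≤ M := by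
  have h1 : z ∈ C[A] := fun a ha => mem_centralizer_singleton_iff.1 (gen_le (b.eq.ge (hle ha)))
  exact b.eq ▸ le_gen hB fun y hy => mem_centralizer_singleton_iff.2 (h.same hA hB h1 hz y hy)

variable (h2 : Two D)
include h2

theorem cent (hW : gen D W = W) (hne : W ≠ ⊤) : U[W] ≤ C[W] :=
  le_centralizer_of_commutator_eq_bot (h2 W hW (h.prop W hW hne))

theorem le_cent_gen (hW : gen D W = W) (hne : W ≠ ⊤) (hz : z ∈ U[W]) : W ≤ gen D C1[z] :=
  le_gen_of_sub hW fun y hy => mem_centralizer_singleton_iff.2 (h.cent h2 hW hne hz y hy)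

theorem bad_of (hW : gen D W = W) (hne : W ≠ ⊤) (hz : z ∈ U[W]) (h1 : z ≠ 1) :
    Bad D (gen D C1[z]) z := ⟨h1, U_mono (h.le_cent_gen h2 hW hne hz) hz, rfl⟩

theorem bad_max (b : Bad D M z) (hW : gen D W = W) (hne : W ≠ ⊤) (hle : M ≤ W) : W ≤ M :=
  b.eq ▸ h.le_cent_gen h2 hW hne (U_mono hle b.mem)

theorem bad_other (b : Bad D M z) (hz : z' ∈ U[M]) (h1 : z' ≠ 1) : Bad D M z' :=
  have := h.le_cent_gen h2 b.sub (h.bad_ne b) hz
  ⟨h1, hz, le_antisymm (h.bad_max h2 b gen_gen (h.cent_ne h1) this) this⟩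

theorem bad_uniq (b : Bad D M z) (b' : Bad D M' z') {c : G} (hc : c ∈ U[M]) (hc' : c ∈ U[M'])
    (h1 : c ≠ 1) : M = M' := (h.bad_other h2 b hc h1).eq.symm.trans (h.bad_other h2 b' hc' h1).eq

end Cx

end Cfsg.Lib.FSet
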