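import Cfsg.Agent.Lib.FT.Final
import Cfsg.Agent.Lib.Core.Fitting

/-!
# Sets of subgroups of order `p`, any two of which lie in `Q A` with `Q` a `q`-group
-/

set_option autoImplicit false

namespace Cfsg.Lib.FSet
open Subgroup Cfsg.Lib Cfsg.Lib.FT
open scoped commutatorElement

variable {G : Type*} [Group G]

/-- the points `D`: subgroups of order `p`, any two in some `Q A` -/
structure FS (p q : ℕ) (D : Set (Subgroup G)) : Prop where
  hp : p.Prime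
  hq : q.Prime
  p2 : p ≠ 2
  q2 : q ≠ 2
  pq : p ≠ q
  card : ∀ A ∈ D, Nat.card A = p
  inv : ∀ A ∈ D, ∀ g : G, g •ᶜ A ∈ D
  pair : ∀ A ∈ D, ∀ B ∈ D, ∃ Q : Subgroup G, IsPGroup q Q ∧ A ≤ N[Q] ∧ B ≤ Q ⊔ A

/-- the subspace generated by the points in `X` -/
def gen (D : Set (Subgroup G)) (X : Subgroup G) : Subgroup G := sSup {A | A ∈ D ∧ A ≤ X}

/-- lines are metabelian -/
def One (D : Set (Subgroup G)) : Prop :=
  ∀ A ∈ D, ∀ B ∈ D, ⁅⁅A ⊔ B, A ⊔ B⁆, ⁅A ⊔ B, A ⊔ B⁆⁆ = ⊥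

/-- the second derived group of a solvable subspace is central -/
def Two (D : Set (Subgroup G)) : Prop :=
  ∀ W : Subgroup G, gen D W = W → Group.IsSolvable W → ⁅⁅⁅W, W⁆, ⁅W, W⁆⁆, W⁆ = ⊥

variable {p q : ℕ} {D : Set (Subgroup G)} {A B W X Y : Subgroup G}

theorem gen_le_iff : gen D X ≤ Y ↔ ∀ A ∈ D, A ≤ X → A ≤ Y := by
  unfold gen; rw [sSup_le_iff]; exact ⟨fun h A h1 h2 => h A ⟨h1, h2⟩, fun h A h1 => h A h1.1 h1.2⟩

theorem gen_le : gen D X ≤ X := gen_le_iff.2 fun _ _ h => h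

theorem le_gen (hA : A ∈ D) (h : A ≤ X) : A ≤ gen D X := le_sSup ⟨hA, h⟩

theorem gen_mono (h : X ≤ Y) : gen D X ≤ gen D Y :=
  gen_le_iff.2 fun _ h1 h2 => le_gen h1 (h2.trans h)

theorem gen_gen : gen D (gen D X) = gen D X :=
  le_antisymm gen_le (gen_le_iff.2 fun _ h1 h2 => le_gen h1 (le_gen h1 h2))

theorem le_gen_of_sub (hW : gen D W = W) (h : W ≤ X) : W ≤ gen D X := hW ▸ gen_mono h

theorem sub_le (hW : gen D W = W) (h : ∀ A ∈ D, A ≤ W → A ≤ Y) : W ≤ Y := hW ▸ gen_le_iff.2 h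

theorem gen_sup (hW : gen D W = W) (hX : gen D X = X) : gen D (W ⊔ X) = W ⊔ X :=
  le_antisymm gen_le (sup_le (le_gen_of_sub hW le_sup_left) (le_gen_of_sub hX le_sup_right))

theorem gen_pt (hA : A ∈ D) : gen D A = A := le_antisymm gen_le (le_gen hA le_rfl)

theorem gen_line (hA : A ∈ D) (hB : B ∈ D) : gen D (A ⊔ B) = A ⊔ B :=
  gen_sup (gen_pt hA) (gen_pt hB)

theorem gen_top (h : sSup D = ⊤) : gen D ⊤ = ⊤ := by
  unfold gen; simpa using h

theorem eq_bot_or_le_of_card [Finite G] (hp : p.Prime) (hA : Nat.card A = p) (X : Subgroup G) :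
    A ⊓ X = ⊥ ∨ A ≤ X := by
  have h := card_dvd_of_le (inf_le_left : A ⊓ X ≤ A)
  rw [hA] at h
  rcases (Nat.dvd_prime hp).1 h with h | h
  · exact Or.inl (Subgroup.card_eq_one.1 h)
  · exact Or.inr (inf_eq_left.1 (eq_of_le_of_card_ge inf_le_left (by rw [h, hA])))

namespace FS
variable (h : FS p q D)
include h

theorem gen_conj (g : G) (X : Subgroup G) : g •ᶜ gen D X = gen D (g •ᶜ X) := by
  have key : ∀ (g : G) (X : Subgroup G), g •ᶜ gen D X ≤ gen D (g •ᶜ X) := fun g X => by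
    rw [map_conj_le_iff, gen_le_iff]
    intro A hA hX
    rw [← map_conj_le_iff]
    exact le_gen (h.inv A hA g) (conj_le_conj_iff.2 hX)
  refine le_antisymm (key g X) ?_
  have := key g⁻¹ (g •ᶜ X)
  rwa [map_conj_inv_map_conj, ← le_conj_iff] at this

theorem norm_gen (X : Subgroup G) : N[X] ≤ N[gen D X] := fun g hg => by
  rw [← conj_eq_iff_mem_normalizer, h.gen_conj, conj_eq_iff_mem_normalizer.2 hg]

theorem sub_conj (hW : gen D W = W) (g : G) : gen D (g •ᶜ W) = g •ᶜ W := by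
  rw [← h.gen_conj, hW]

theorem ne_bot (hA : A ∈ D) : A ≠ ⊥ := fun e => h.hp.one_lt.ne' (by rw [← h.card A hA, e, card_bot])

theorem pgroup (hA : A ∈ D) : IsPGroup p A := IsPGroup.of_card (n := 1) (by rw [h.card A hA, pow_one])

theorem pow_p (hA : A ∈ D) {a : G} (ha : a ∈ A) : a ^ p = 1 := by
  have := pow_card_eq_one' (x := (⟨a, ha⟩ : A))
  rw [h.card A hA] at this
  exact congrArg Subtype.val this

variable [Finite G]

theorem comm (hA : A ∈ D) {a b : G} (ha : a ∈ A) (hb : b ∈ A) : a * b = b * a := by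
  have := Fact.mk h.hp
  have := isCyclic_of_prime_card (h.card A hA)
  exact comm_of_isMulCommutative IsCyclic.isMulCommutative ha hb

theorem le_cent (hA : A ∈ D) : A ≤ C[A] := fun _ ha _ hb => h.comm hA hb ha

theorem eq_zpowers (hA : A ∈ D) {a : G} (ha : a ∈ A) (h1 : a ≠ 1) : zpowers a = A := by
  rcases eq_bot_or_le_of_card h.hp (h.card A hA) (zpowers a) with e | e
  · exact absurd (mem_bot.1 (e ▸ (⟨ha, mem_zpowers a⟩ : a ∈ A ⊓ zpowers a))) h1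
  · exact le_antisymm (zpowers_le.2 ha) e

theorem eq_of_le (hA : A ∈ D) (hB : B ∈ D) (hle : A ≤ B) : A = B :=
  eq_of_le_of_card_ge hle (by rw [h.card A hA, h.card B hB])

theorem not_dvd {Q : Subgroup G} (hQ : IsPGroup q Q) : ¬ p ∣ Nat.card Q := by
  have := Fact.mk h.hq
  obtain ⟨k, hk⟩ := hQ.exists_card_eq
  rw [hk]
  exact fun e => h.pq ((Nat.prime_dvd_prime_iff_eq h.hp h.hq).1 (h.hp.dvd_of_dvd_pow e))

theorem cop (hA : A ∈ D) {Q : Subgroup G} (hQ : IsPGroup q Q) (hn : A ≤ N[Q]) : CoprimeAct A Q :=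
  have := Fact.mk h.hp
  CoprimeAct.of_isPGroup (h.pgroup hA) (h.not_dvd hQ) hn

theorem eq_one (hA : A ∈ D) {Q : Subgroup G} (hQ : IsPGroup q Q) {x : G} (h1 : x ∈ A) (h2 : x ∈ Q) :
    x = 1 := by
  rcases eq_bot_or_le_of_card h.hp (h.card A hA) Q with e | e
  · exact mem_bot.1 (e ▸ (⟨h1, h2⟩ : x ∈ A ⊓ Q))
  · exact absurd (h.card A hA ▸ card_dvd_of_le e) (h.not_dvd hQ)

theorem card_sup (hA : A ∈ D) {Q : Subgroup G} (hQ : IsPGroup q Q) (hn : A ≤ N[Q]) :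
    Nat.card ↥(Q ⊔ A) = p * Nat.card Q := by
  have := card_sup_mul_card_inf hn
  rwa [(h.cop hA hQ hn).disjoint.eq_bot, card_bot, mul_one, h.card A hA, sup_comm] at this

theorem sylow (hA : A ∈ D) {Q : Subgroup G} (hQ : IsPGroup q Q) (hn : A ≤ N[Q]) (hB : Nat.card B = p)
    (hle : B ≤ Q ⊔ A) : IsSylowIn p B (Q ⊔ A) := by
  have := Fact.mk h.hp
  refine IsSylowIn.of_not_dvd_relIndex hle (IsPGroup.of_card (n := 1) (by rw [hB, pow_one])) ?_
  have e := relIndex_mul_card hle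
  rw [h.card_sup hA hQ hn, hB, mul_comm] at e
  rw [Nat.eq_of_mul_eq_mul_left h.hp.pos e]
  exact h.not_dvd hQ

theorem conj_of_le (hA : A ∈ D) {Q : Subgroup G} (hQ : IsPGroup q Q) (hn : A ≤ N[Q])
    (hB : Nat.card B = p) (hle : B ≤ Q ⊔ A) : ∃ x ∈ Q, x •ᶜ A = B := by
  have := Fact.mk h.hp
  obtain ⟨k, hk, e⟩ := (h.sylow hA hQ hn (h.card A hA) le_sup_right).exists_conj
    (h.sylow hA hQ hn hB hle)
  obtain ⟨x, hx, a, ha, rfl⟩ := (mem_sup_of_le_normalizer hn).1 hk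
  exact ⟨x, hx, by rw [← e, ← conj_conj, conj_eq_of_mem ha]⟩

theorem exists_conj (hA : A ∈ D) (hB : B ∈ D) : ∃ x : G, x •ᶜ A = B := by
  obtain ⟨Q, hQ, hn, hle⟩ := h.pair A hA B hB
  obtain ⟨x, -, e⟩ := h.conj_of_le hA hQ hn (h.card B hB) hle
  exact ⟨x, e⟩

/-- two points in a subgroup of order prime to `q` are equal -/
theorem eq_of_not_dvd (hA : A ∈ D) (hB : B ∈ D) (hX : ¬ q ∣ Nat.card X) (h1 : A ≤ X) (h2 : B ≤ X) :
    B = A := by
  have := Fact.mk h.hq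
  obtain ⟨Q, hQ, hn, hle⟩ := h.pair A hA B hB
  obtain ⟨k, hk⟩ := hQ.exists_card_eq
  have d1 := card_dvd_of_le (inf_le_left : (Q ⊔ A) ⊓ X ≤ _)
  have d2 := card_dvd_of_le (inf_le_right : (Q ⊔ A) ⊓ X ≤ _)
  rw [h.card_sup hA hQ hn, hk] at d1
  have c : (Nat.card ↥((Q ⊔ A) ⊓ X)).Coprime (q ^ k) :=
    Nat.Coprime.pow_right _ ((Nat.Prime.coprime_iff_not_dvd h.hq).2 fun e => hX (e.trans d2)).symm
  have e : A = (Q ⊔ A) ⊓ X := eq_of_le_of_card_ge (le_inf le_sup_right h1)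
    (by rw [h.card A hA]; exact Nat.le_of_dvd h.hp.pos (c.dvd_of_dvd_mul_right d1))
  exact h.eq_of_le hB hA (e ▸ le_inf hle h2)

/-- an `r`-group, `r ≠ q`, normalized by a point `A` and meeting it trivially centralizes it -/
theorem le_cent_of_ne (hA : A ∈ D) {r : ℕ} (hr : r.Prime) (hrq : r ≠ q) {R : Subgroup G}
    (hR : IsPGroup r R) (hn : A ≤ N[R]) (hle : ¬ A ≤ R) : R ≤ C[A] := by
  have := Fact.mk hr
  obtain ⟨k, hk⟩ := hR.exists_card_eq
  have hb := (eq_bot_or_le_of_card h.hp (h.card A hA) R).resolve_right hle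
  have c := card_sup_mul_card_inf hn
  rw [hb, card_bot, mul_one, h.card A hA, hk] at c
  have hX : ¬ q ∣ Nat.card ↥(A ⊔ R) := by
    rw [c, h.hq.dvd_mul]
    rintro (e | e)
    · exact h.pq ((Nat.prime_dvd_prime_iff_eq h.hq h.hp).1 e).symm
    · exact hrq ((Nat.prime_dvd_prime_iff_eq h.hq hr).1 (h.hq.dvd_of_dvd_pow e)).symm
  have hRn : R ≤ N[A] := fun x hx => conj_eq_iff_mem_normalizer.1
    (h.eq_of_not_dvd hA (h.inv A hA x) hX le_sup_left (conj_le_of_mem le_sup_left (mem_sup_right hx)))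
  exact le_centralizer_of_commutator_eq_bot' (commutator_eq_bot_of_inf_eq_bot hn hRn hb)

end FS

end Cfsg.Lib.FSet
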