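import Cfsg.Agent.Lib.FS.Char

/-!
# The solvable case
-/

set_option autoImplicit false
set_option linter.unusedSectionVars false

namespace Cfsg.Lib.FSet
open Subgroup Cfsg.Lib Cfsg.Lib.FT
open scoped commutatorElement

universe u

theorem one_aux (p q n : ℕ) : ∀ (G : Type u) [Group G] [Finite G] (D : Set (Subgroup G)),
    Nat.card G = n → FS p q D → gen D ⊤ = ⊤ → One D → ∀ A ∈ D, ∀ x ∈ Q[(⊤ : Subgroup G)],
    x ∈ C[A] → x = 1 := by
  induction n using Nat.strong_induction_on with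
  | _ n ih0 =>
  intro G _ _ D hn h hg h1 A hA x hx hxA
  subst hn
  have := Fact.mk h.hq
  have s : SS D ⊤ A := ⟨hg, (isSolvable_congr topEquiv).2 (h.solvable hg (Or.inl h1)), hA, le_top⟩
  set Q := Q[(⊤ : Subgroup G)] with hQ
  have qQ : IsPGroup q Q := h.qQ s
  have ih : ∀ N : Subgroup G, N.Normal → N ≤ Q → N ≠ ⊥ → ∀ y ∈ Q, (∀ a ∈ A, ⁅a, y⁆ ∈ N) → y ∈ N := by
    intro N hN hle hN1 y hy hc
    have hf := QuotientGroup.mk'_surjective N
    rw [← QuotientGroup.eq_one_iff]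
    refine ih0 _ (card_quot_lt N hN1) (G ⧸ N) _ rfl (h.map _ hf (h.not_le_of_normal hA fun e =>
      h.ne_bot hA (eq_bot_iff.2 fun a ha => h.eq_one hA qQ ha (hle (e ha))))) (gen_map_top _ hf hg)
      (h1.map _) _ ⟨A, hA, rfl⟩ _ ?_ ?_
    · rw [← map_top_of_surjective _ hf, ← map_commutator]; exact ⟨y, hy, rfl⟩
    · rintro _ ⟨a, ha, rfl⟩
      have := (QuotientGroup.eq_one_iff _).2 (hc a ha)
      rwa [← QuotientGroup.mk'_apply, map_commutatorElement, commutatorElement_eq_one_iff_mul_comm] at this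
  by_contra hx1
  set Z := Q ⊓ C[Q] with hZ
  have hZ1 : Z ≠ ⊥ := pg_inf_centralizer_ne_bot qQ qQ le_normalizer fun e => hx1 (mem_bot.1 (e ▸ hx))
  have nZ : ∀ X : Subgroup G, X ≤ N[Z] := fun X => by rw [normalizer_eq_top]; exact le_top
  have cZ := h.cop hA (qQ.to_le (inf_le_left : Z ≤ Q)) (nZ A)
  have hZA : Z ≤ C[A] := by
    refine le_centralizer_of_commutator_eq_bot ?_
    by_contra hR
    have := commutator_inf_centralizer_le cZ ⟨ih _ (normal_of_top_le_normalizer (h.le_of s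
      ((le_centralizer_iff.1 (cZ.commutator_le.trans inf_le_right)).trans (centralizer_le_normalizer _))
      (le_normalizer_commutator_right Z A))) (cZ.commutator_le.trans inf_le_left) hR x hx fun a ha => by
        rw [commutatorElement_eq_one_iff_mul_comm.2 (hxA a ha)]; exact one_mem _, hxA⟩
    rw [commutator_eq_bot_iff_le_centralizer.2 (inf_le_right.trans (centralizer_mono inf_le_left))] at this
    exact hx1 (mem_bot.1 this)
  have fpf : ∀ a ∈ A, a ≠ 1 → ∀ y ∈ Q, ⁅a, y⁆ ∈ Z → y ∈ Z := fun a ha ha1 y hy e =>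
    ih Z inferInstance inf_le_left hZ1 y hy fun b hb => ((show A ≤ commInto Z {y} from
      h.eq_zpowers hA ha ha1 ▸ zpowers_le.2 ⟨nZ ⊤ trivial, by simpa using e⟩) hb).2 y rfl
  obtain ⟨⟨a, ha⟩, ha1⟩ := ne_bot_iff_exists_ne_one.1 (h.ne_bot hA)
  replace ha1 : a ≠ 1 := fun e => ha1 (Subtype.ext e)
  have cj : ∀ g : G, ∀ y ∈ Q, g * y * g⁻¹ ∈ Q := fun g y hy => Normal.conj_mem inferInstance y hy g
  have cm : ∀ y ∈ Q, ⁅a, y⁆ ∈ Q := fun y hy => mul_mem (cj a y hy) (inv_mem hy)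
  have surj : ∀ g ∈ Q, ∃ y ∈ Q, ⁅a, y⁆⁻¹ * g ∈ Z := fun g hg => by
    let f := QuotientGroup.mk' Z
    let φ : Q.map f → Q.map f := fun y => ⟨⁅f a, y⁆, by
      obtain ⟨_, y, hy, rfl⟩ := y
      exact ⟨_, cm y hy, map_commutatorElement f a y⟩⟩
    have hφ : Function.Injective φ := by
      rintro ⟨_, y, hy, rfl⟩ ⟨_, y', hy', rfl⟩ e
      replace e : ⁅f a, f y⁆ = ⁅f a, f y'⁆ := congrArg Subtype.val e
      refine Subtype.ext (QuotientGroup.eq.2 (fpf a ha ha1 _ (mul_mem (inv_mem hy) hy') ?_))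
      rw [← QuotientGroup.eq_one_iff, ← QuotientGroup.mk'_apply, map_commutatorElement, map_mul, map_inv]
      calc _ = f a * (f y)⁻¹ * (f a)⁻¹ * ⁅f a, f y'⁆ * f y := by
            simp only [commutatorElement_def, f]; group
        _ = 1 := by rw [← e, commutatorElement_def]; group
    obtain ⟨⟨_, y, hy, rfl⟩, e⟩ := Finite.surjective_of_injective hφ ⟨_, g, hg, rfl⟩
    refine ⟨y, hy, QuotientGroup.eq.1 ?_⟩
    rw [← QuotientGroup.mk'_apply, map_commutatorElement]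
    exact congrArg Subtype.val e
  have com : ∀ g ∈ Q, Commute g (a * g * a⁻¹) := fun g hg => by
    obtain ⟨y, hy, hc⟩ := surj g hg
    have sL := h.line hA (h.inv A hA y)
    have k : ⁅a, y⁆ ∈ Q[A ⊔ y •ᶜ A] := by
      obtain ⟨w, hw, b, hb, e⟩ := h.dec sL (w := ⁅a, y⁆) (by
        simpa [commutatorElement_def, mul_assoc] using mul_mem_sup ha (conj_mem_conj (inv_mem ha) y))
      have := h.eq_one hA qQ hb (by simpa [← e] using mul_mem (inv_mem (Q_mono le_top hw)) (cm y hy))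
      rwa [← e, this, mul_one]
    have k1 : Commute ⁅a, y⁆ (a * ⁅a, y⁆ * a⁻¹) := commutator_eq_bot_iff_forall.1 (h1 A hA _ (h.inv A hA y))
      _ k _ (conj_mem_of_mem_normalizer (h.nQ sL ha) k)
    obtain ⟨c, rfl⟩ : ∃ c, g = ⁅a, y⁆ * c := ⟨⁅a, y⁆⁻¹ * g, by group⟩
    rw [inv_mul_cancel_left] at hc
    have e : a * (⁅a, y⁆ * c) * a⁻¹ = a * ⁅a, y⁆ * a⁻¹ * c := by
      rw [← mul_assoc, mul_assoc _ c, ← (Commute.inv_left (hZA hc a ha)).eq, ← mul_assoc]
    rw [e]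
    exact (k1.mul_right (hc.2 _ (cm y hy))).mul_left
      (Commute.mul_right (hc.2 _ (cj a _ (cm y hy))).symm (Commute.refl c))
  by_cases hQZ : Q ≤ Z
  · have := h.mem_U s hx (centralizer_le_normalizer _ hxA)
    rw [commutator_eq_bot_iff_le_centralizer.2 (hQZ.trans inf_le_right)] at this
    exact hx1 (mem_bot.1 this)
  obtain ⟨g, hg1, hg2, -, hg3⟩ := pg_exists_fixed_mod qQ qQ le_normalizer
    (lt_of_le_not_ge inf_le_left hQZ) (nZ Q) (nZ Q)
  have k : (a⁻¹ * g * a)⁻¹ * (a * g * a⁻¹) ∈ Z := by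
    refine ⟨Q.mul_mem (Q.inv_mem (by simpa using cj a⁻¹ g hg1)) (cj a g hg1), fun w hw => ?_⟩
    have β := hg3 _ (cj a w hw)
    have α : ⁅a * g * a⁻¹, w⁆ ∈ Z := by
      have := conj_mem_of_mem_normalizer (nZ ⊤ (mem_top a)) (hg3 _ (cj a⁻¹ w hw))
      rw [conjugate_commutatorElement] at this
      simpa [mul_assoc] using this
    have e1 : ⁅a * g * a⁻¹, w⁆ = ⁅g, a * w * a⁻¹⁆ := by
      have c0 := com _ (mul_mem hg1 hw)
      have c1 := com g hg1
      have c2 := com w hw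
      rw [show a * (g * w) * a⁻¹ = a * g * a⁻¹ * (a * w * a⁻¹) by group] at c0
      have c3 := α.2 g hg1
      have c4 := β.2 _ (cj a g hg1)
      generalize a * g * a⁻¹ = g' at *
      generalize a * w * a⁻¹ = w' at *
      have c5 : Commute g ⁅g', w⁆⁻¹ := Commute.inv_right c3
      have c6 : Commute g' ⁅g, w'⁆⁻¹ := Commute.inv_right c4
      have l : g * w * (g' * w') = ⁅g', w⁆⁻¹ * (g * g') * (w * w') := by
        rw [← mul_assoc ⁅g', w⁆⁻¹, ← c5.eq, commutatorElement_def]; group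
      have r : g' * w' * (g * w) = ⁅g, w'⁆⁻¹ * (g' * g) * (w' * w) := by
        rw [← mul_assoc ⁅g, w'⁆⁻¹, ← c6.eq, commutatorElement_def]; group
      have := c0.eq
      rw [l, r, c1.eq, c2.eq] at this
      exact inv_injective (mul_right_cancel (mul_right_cancel this))
    have e2 : ⁅g, a * w * a⁻¹⁆ = ⁅a⁻¹ * g * a, w⁆ := by
      calc _ = a⁻¹ * (a * ⁅g, a * w * a⁻¹⁆) := by group
        _ = a⁻¹ * (⁅g, a * w * a⁻¹⁆ * a) := by rw [hZA β a ha]
        _ = _ := by simp only [commutatorElement_def]; group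
    rw [e2] at e1
    generalize a * g * a⁻¹ = u at *
    generalize a⁻¹ * g * a = v at *
    calc w * (v⁻¹ * u) = v⁻¹ * (⁅v, w⁆ * w) * u := by rw [commutatorElement_def]; group
      _ = _ := by rw [← e1, commutatorElement_def]; group
  have ha2 : a * a ≠ 1 := fun e => h.odd s ((orderOf_eq_prime (by rw [sq, e]) ha1).symm.dvd.trans
    (orderOf_dvd_natCard ⊤ (mem_top a)))
  have := fpf _ (mul_mem ha ha) ha2 (a⁻¹ * g * a)⁻¹ (inv_mem (by simpa using cj a⁻¹ g hg1)) (by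
    convert inv_mem k using 1
    rw [commutatorElement_def]; group)
  exact hg2 (mem_of_mem_of_eq (conj_mem_of_mem_normalizer (nZ ⊤ (mem_top a)) (inv_mem this)) (by group))

variable {G : Type u} [Group G] [Finite G] {p q : ℕ} {D : Set (Subgroup G)}

theorem FS.two (h : FS p q D)
    (hab : ∀ A ∈ D, ∀ R : Subgroup G, IsPGroup q R → A ≤ N[R] → Q[R] = ⊥ → R ≤ C[A]) : Two D := by
  intro W hW hs
  have := Fact.mk h.hq
  by_cases hA : ∃ A ∈ D, A ≤ W
  swap
  · have : W = ⊥ := le_bot_iff.1 (sub_le hW fun A h1 h2 => absurd ⟨A, h1, h2⟩ hA)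
    simp [this]
  obtain ⟨A, hA, hle⟩ := hA
  have qQ := h.qQ ⟨hW, hs, hA, hle⟩
  have key : ∀ R ≤ Q[W], W ≤ N[R] → R ≤ C[R] → R ≤ C[W] := fun R h1 h2 h3 =>
    le_centralizer_iff.1 (sub_le hW fun B hB hle => le_centralizer_iff.1 (hab B hB R (qQ.to_le h1)
      (hle.trans h2) (commutator_eq_bot_iff_le_centralizer.2 h3)))
  rw [commutator_eq_bot_iff_le_centralizer]
  refine key _ (U_le W) (le_norm_U W) (le_trans ?_ (centralizer_mono (U_le W)))
  by_contra hc
  set Z := U[W] ⊓ C[Q[W]]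
  have nZ : W ≤ N[Z] := le_normalizer_inf (le_norm_U W) (le_normalizer_centralizer (le_norm_Q W))
  obtain ⟨x, hx1, hx2, -, hx3⟩ := pg_exists_fixed_mod (qQ.to_le (U_le W)) qQ (le_norm_Q _)
    (lt_of_le_not_ge (inf_le_left : Z ≤ _) fun e => hc (e.trans inf_le_right))
    ((U_le W).trans ((Q_le W).trans nZ)) ((Q_le W).trans nZ)
  set R := U[W] ⊓ commInto Z Q[W]
  have k1 : ⁅⁅R, Q[W]⁆, Q[W]⁆ = ⊥ := commutator_eq_bot_iff_le_centralizer.2
    ((le_commInto_iff.1 inf_le_right).2.trans inf_le_right)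
  have k2 : ⁅U[W], R⁆ = ⊥ := commutator_commutator_eq_bot_of_rotate (by rwa [commutator_comm Q[W] R]) k1
  refine hx2 ⟨hx1, centralizer_mono (Q_le W) (key R (inf_le_left.trans (U_le W))
    (fun w hw => pg_mem_normalizer_of_conj_mem fun y hy => ?_)
    ((le_centralizer_of_commutator_eq_bot' k2).trans (centralizer_mono inf_le_left))
    ⟨hx1, nZ (Q_le W (U_le W hx1)), hx3⟩)⟩
  refine ⟨conj_mem_of_mem_normalizer (le_norm_U W hw) hy.1,
    mul_mem (mul_mem (nZ hw) hy.2.1) (inv_mem (nZ hw)), fun c hc => ?_⟩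
  have := conj_mem_of_mem_normalizer (nZ hw) (hy.2.2 _ (conj_mem_of_mem_normalizer' (le_norm_Q W hw) hc))
  rw [conjugate_commutatorElement] at this
  simpa [mul_assoc] using this

theorem FS.norm_le (h : FS p q D) (hg : gen D ⊤ = ⊤) (h12 : One D ∨ Two D) {A : Subgroup G} (hA : A ∈ D) :
    ¬ 2 ∣ Nat.card G ∧ N[A] ≤ center G ⊔ A := by
  have s : SS D ⊤ A := ⟨hg, (isSolvable_congr topEquiv).2 (h.solvable hg h12), hA, le_top⟩
  refine ⟨by simpa using h.odd s, fun g hg' => ?_⟩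
  obtain ⟨x, hx, a, ha, rfl⟩ := h.dec s (mem_top g)
  have hn : x ∈ N[A] := by simpa using mul_mem hg' (inv_mem (le_normalizer ha))
  refine mul_mem_sup ?_ ha
  rcases h12 with h1 | h2
  · rw [one_aux p q _ G D rfl h hg h1 A hA x hx (h.cent_of_norm s hx hn)]; exact one_mem _
  · exact mem_center_iff.2 fun y => h2.cent s (h.mem_U s hx hn) y trivial

end Cfsg.Lib.FSet
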