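import Cfsg.Agent.Lib.FS.ClaimT
import Cfsg.Agent.Lib.ZStar.Main

/-!
# Involutions centralizing a point
-/

set_option autoImplicit false
set_option linter.unusedSectionVars false

namespace Cfsg.Lib.FSet.Cx
open Subgroup Cfsg.Lib Cfsg.Lib.FT
open scoped commutatorElement

universe u
variable {G : Type u} [Group G] [Finite G] {p q : ℕ} {D : Set (Subgroup G)}
  {A B E L M M' W X Y : Subgroup G} {s z z' : G} (h : Cx p q D) (h2 : Two D)

theorem le_genC (hB : B ∈ D) (hs : s ∈ C[B]) : B ≤ gen D C1[s] :=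
  le_gen hB fun y hy => mem_centralizer_singleton_iff.2 (hs y hy)

theorem cent_of_le_genC (hle : B ≤ gen D C1[s]) : s ∈ C[B] :=
  fun _ hy => mem_centralizer_singleton_iff.1 (gen_le (hle hy))

theorem conj_conj' (hs : s ∈ C[Y]) (x : G) : s •ᶜ x •ᶜ Y = (s * x * s⁻¹) •ᶜ Y := by
  rw [← conj_conj (s * x), conj_eq_of_mem_centralizer (inv_mem hs), conj_conj]

include h

theorem norm_genC (s : G) : C1[s] ≤ N[gen D C1[s]] := le_normalizer.trans (h.norm_gen _)

theorem line_norm (hs : s * s = 1) (B : Subgroup G) : s ∈ N[B ⊔ s •ᶜ B] := by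
  rw [← conj_eq_iff_mem_normalizer, conj_sup, conj_conj, hs, map_conj_one, sup_comm]

theorem fix_pt (hs : s * s = 1) (hY : Y ∈ D) (hc : s ∈ C[Y]) (sL : SS D L A) (hn : s ∈ N[L]) :
    ∃ B ∈ D, B ≤ L ∧ s ∈ C[B] := by
  obtain ⟨B, hB, hle, hs'⟩ := h.fix2 sL (isPGroup_zpowers_of_pow (p := 2) (k := 1)
    (by rw [pow_one, sq, hs])) (zpowers_le.2 hn)
  exact ⟨B, hB, hle, h.same hY hB hc (zpowers_le.1 hs')⟩

include h2

theorem mid (hs : s * s = 1) (sL : SS D L Y) (hc : s ∈ C[Y]) (hn : s ∈ N[L]) {x : G} (hx : x ∈ Q[L]) :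
    (x * (s * x * s⁻¹)) •ᶜ Y ≤ gen D C1[s] := by
  refine le_genC (h.inv Y sL.pt _) (h.same sL.pt (h.inv Y sL.pt _) hc ?_)
  have hx' := conj_mem_of_mem_normalizer (norm_Q L hn) hx
  have e : s * (x * (s * x * s⁻¹)) * s⁻¹ = x * (s * x * s⁻¹) * ⁅(s * x * s⁻¹)⁻¹, x⁻¹⁆ := by
    calc _ = s * x * s⁻¹ * ((s * s) * x * (s * s)⁻¹) := by group
      _ = _ := by rw [hs, commutatorElement_def]; group
  rw [← conj_eq_iff_mem_normalizer, conj_conj' hc, e, ← conj_conj, conj_eq_of_mem_centralizer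
    (centralizer_mono sL.le (h2.cent sL (commutator_mem_commutator (inv_mem hx') (inv_mem hx))))]

theorem inv_norm (hs : s * s = 1) (hY : Y ∈ D) (hc : s ∈ C[Y]) (hW : gen D W = W)
    (hle : gen D C1[s] ≤ W) : s ∈ N[W] := by
  refine pg_mem_normalizer_of_conj_mem fun w hw => ?_
  refine (sub_le (Y := s⁻¹ •ᶜ W) hW fun B hB hBW => ?_ : W ≤ _) hw |> fun e => by
    rwa [mem_map_conj, inv_inv] at e
  rw [← map_conj_le_iff]
  have sL := h.line hB (h.inv B hB s)
  have hn := h.line_norm hs B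
  set L := B ⊔ s •ᶜ B
  obtain ⟨A, hA, hAL, hc'⟩ := h.fix_pt hs hY hc sL hn
  have sA := sL.pt' hA hAL
  obtain ⟨x, hx, e⟩ := h.conj_pt sA (h.card B hB) le_sup_left
  have hx' := conj_mem_of_mem_normalizer (norm_Q L hn) hx
  have hAX : A ≤ gen D (L ⊓ W) := le_gen hA (le_inf hAL ((le_genC hA hc').trans hle))
  have hXL : gen D (L ⊓ W) ≤ L := gen_le.trans inf_le_left
  have k1 := h.mem_of_conj_le sA gen_gen hAX hXL hx (e ▸ le_gen hB (le_inf le_sup_left hBW))
  have k2 := h.mem_of_conj_le sA gen_gen hAX hXL (mul_mem hx hx') (le_gen (h.inv A hA _)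
    (le_inf (conj_le_of_mem hAL (Q_le L (mul_mem hx hx'))) ((h.mid h2 hs sA hc' hn hx).trans hle)))
  rw [← e, conj_conj' hc']
  exact (h.conj_le h2 sA hAX hXL (by simpa using mul_mem (inv_mem k1) k2)).trans
    (gen_le.trans inf_le_right)

theorem single_conj (hs : s * s = 1) (hY : Y ∈ D) (e : gen D C1[s] = Y) (hB : B ∈ D) {x : G}
    (hx : x ∈ Q[Y ⊔ B]) : s •ᶜ x •ᶜ Y = x⁻¹ •ᶜ Y := by
  have hc := cent_of_le_genC e.ge
  have sL := h.line hY hB
  have hn := h.inv_norm h2 hs hY hc sL.sub (e.le.trans le_sup_left)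
  have k := h.eq_of_le (h.inv Y hY _) hY ((h.mid h2 hs sL hc hn hx).trans e.le)
  rw [conj_conj' hc, eq_comm, conj_eq_iff, inv_inv, conj_conj, k]

theorem single (hs : s * s = 1) (hs1 : s ≠ 1) (hY : Y ∈ D) (e : gen D C1[s] = Y) : False := by
  have hO : pPrimeCore 2 G = ⊥ := h.rad _ inferInstance (odd_order_solvable
    (Nat.odd_iff.2 (Nat.two_dvd_ne_zero.1 not_dvd_card_pPrimeCore)))
  have hc := cent_of_le_genC e.ge
  have := zstar_center hO (by rw [sq, hs]) (t := s) fun g hg => ?_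
  · refine h.cent_ne hs1 (top_le_iff.1 (h.top.ge.trans (gen_mono fun y _ => ?_)))
    exact mem_centralizer_singleton_iff.2 (mem_center_iff.1 this y)
  have e1 : gen D C1[g * s * g⁻¹] = g •ᶜ Y := by rw [← conj_centralizer_singleton, ← h.gen_conj, e]
  have e2 : g •ᶜ Y = Y := h.eq_of_le (h.inv Y hY g) hY ((le_genC (h.inv Y hY g)
    (h.same hY (h.inv Y hY g) hc (e1 ▸ h.norm_genC _ (mem_centralizer_singleton_iff.2 hg)))).trans e.le)
  rw [e2] at e1
  set t := g * s * g⁻¹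
  have ht : t * t = 1 := by
    calc t * t = g * (s * s) * g⁻¹ := by simp only [t]; group
      _ = 1 := by rw [hs]; group
  by_contra hne
  refine h.cent_ne (z := s⁻¹ * t) (fun e => hne (inv_mul_eq_one.1 e).symm)
    (top_le_iff.1 (sub_le h.top fun B hB _ => le_genC hB (h.same hY hB
      (mul_mem (inv_mem hc) (cent_of_le_genC e1.ge)) ?_)))
  obtain ⟨x, hx, rfl⟩ := h.conj_pt (h.line hY hB) (h.card B hB) le_sup_right
  rw [← conj_eq_iff_mem_normalizer, ← conj_conj, h.single_conj h2 ht hY e1 hB hx,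
    ← h.single_conj h2 hs hY e hB hx, map_conj_inv_map_conj]

theorem cent_le_norm (hs : s * s = 1) (hs1 : s ≠ 1) (hY : Y ∈ D) (hc : s ∈ C[Y]) (b : Bad D M z)
    (hYM : Y ≤ M) (hz : z ∈ C1[s]) : C1[s] ≤ N[M] := by
  have sM := h.bad_ss b hY hYM
  have hYW := le_genC hY hc
  have nW := h.norm_genC s
  set W := gen D C1[s] with hW
  have hWM : W ≤ M := h.claimT h2 b gen_gen (h.cent_ne hs1) (nW hz) hY hYM hYW
  have hsM : s ∈ N[M] :=
    h.bad_norm b (mem_centralizer_singleton_iff.2 (mem_centralizer_singleton_iff.1 hz).symm)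
  have hW' : ∀ g ∈ C1[s], W ≤ g •ᶜ M := fun g hg =>
    (map_conj_eq_of_mem_normalizer (nW hg)).ge.trans (conj_le_conj_iff.2 hWM)
  have odd : ∀ c ∈ M, ¬ 2 ∣ orderOf c := fun c hc e => h.odd sM (e.trans (orderOf_dvd_natCard M hc))
  have si : s⁻¹ = s := inv_eq_of_mul_eq_one_right hs
  by_cases ha : ∃ c ∈ U[M], c ≠ 1 ∧ s * c * s⁻¹ = c⁻¹
  · obtain ⟨c, hcU, hc1, hcs⟩ := ha
    intro g hg
    have b' := h.bad_conj b g
    have e1 : s * c * s = c⁻¹ := by rw [← hcs, si]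
    have hu : s * c * (s * c) = 1 := by rw [← mul_assoc, e1, inv_mul_cancel]
    obtain ⟨j, hj⟩ := exists_conj_of_odd (t := s * c) (t' := s) (by rw [sq, hu]) (by rw [sq, hs])
      (by rw [e1, orderOf_inv]; exact odd c (Q_le M (U_le M hcU)))
    rw [e1] at hj
    have e2 : gen D C1[s * c] = W := by
      rw [← hj, ← conj_centralizer_singleton, ← h.gen_conj, conj_eq_of_mem_centralizer
        (centralizer_mono hWM (h2.cent sM (zpow_mem (inv_mem hcU) j)))]
    have k1 := h.inv_norm h2 hs hY hc b'.sub (hW' g hg)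
    have k2 := h.inv_norm h2 hu hY (mul_mem hc (centralizer_mono hYM (h2.cent sM hcU))) b'.sub
      (e2.le.trans (hW' g hg))
    have := h.claimT h2 (h.bad_other h2 b hcU hc1) b'.sub (h.bad_ne b')
      (by simpa using mul_mem (inv_mem k1) k2) hY hYM (hYW.trans (hW' g hg))
    exact pg_mem_normalizer_of_conj_mem fun x hx => this (conj_mem_conj hx g)
  have hU : ∀ c ∈ U[M], s * c * s⁻¹ = c := fun c hcU => by
    have hc' := conj_mem_of_mem_normalizer (norm_U M hsM) hcU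
    by_contra hne
    refine ha ⟨c⁻¹ * (s * c * s⁻¹), mul_mem (inv_mem hcU) hc',
      fun e => hne (inv_mul_eq_one.1 e).symm, ?_⟩
    calc _ = (s * c * s⁻¹)⁻¹ * ((s * s) * c * (s * s)⁻¹) := by group
      _ = _ := by rw [hs]; group
  by_cases hUW : U[W] = ⊥
  swap
  · obtain ⟨⟨y, hy⟩, hy1⟩ := ne_bot_iff_exists_ne_one.1 hUW
    intro g hg
    exact conj_eq_iff_mem_normalizer.1 (h.bad_uniq h2 (h.bad_conj b g) b (U_mono (hW' g hg) hy)
      (U_mono hWM hy) fun e => hy1 (Subtype.ext e))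
  have sW := sM.of_le gen_gen hYW hWM
  have hQ : Q[W] ≠ ⊥ := fun e => h.single h2 hs hs1 hY (h.eq_of_Q_bot sW e)
  have k : M ≤ N[Q[W]] := h.le_of sM (fun w hw => centralizer_le_normalizer _ fun x hx => ?_)
    (hYW.trans (le_norm_Q W))
  · have k1 := le_gen_of_sub b.sub k
    rw [le_antisymm k1 (h.bad_max h2 b gen_gen (h.norm_ne_q hQ (h.qQ sW)) k1)]
    exact nW.trans ((norm_Q W).trans (le_normalizer.trans (h.norm_gen _)))
  have hw' := conj_mem_of_mem_normalizer (norm_Q M hsM) hw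
  have k1 := h.mem_of_conj_le sM gen_gen hYW hWM (mul_mem hw hw') (h.mid h2 hs sM hc hsM hw)
  have k2 : Q[W] ⊔ U[M] ≤ C1[x] := sup_le (fun y hy => mem_centralizer_singleton_iff.2
      (commutator_eq_bot_iff_forall.1 hUW y hy x hx))
    fun y hy => mem_centralizer_singleton_iff.2 (h2.comm sM hy (hWM (Q_le W hx)))
  have k3 := commutatorElement_eq_one_iff_mul_comm.2 (mem_centralizer_singleton_iff.1 (k2 k1)).symm
  have hcU : ⁅x, w⁆ ∈ U[M] := commutator_mem_commutator (Q_mono hWM hx) hw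
  have k4 := hU _ hcU
  rw [conjugate_commutatorElement, ← mem_centralizer_singleton_iff.1 (gen_le (Q_le W hx)),
    mul_inv_cancel_right] at k4
  rw [commutatorElement_mul_right_eq_mul_conj, k4, mul_assoc _ w, ← h2.comm sM hcU (Q_le M hw),
    ← mul_assoc, mul_inv_cancel_right, ← sq] at k3
  rw [← commutatorElement_eq_one_iff_mul_comm]
  by_contra hne
  exact odd _ (Q_le M (U_le M hcU)) (orderOf_eq_prime k3 hne).symm.dvd

end Cfsg.Lib.FSet.Cx
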