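import Cfsg.Agent.Lib.FS.Trans

/-!
# Solvable subspaces: `W = Q A` with `Q = W'` a `q`-group
-/

set_option autoImplicit false
set_option linter.unusedSectionVars false

namespace Cfsg.Lib.FSet
open Subgroup Cfsg.Lib Cfsg.Lib.FT
open scoped commutatorElement

universe u

theorem card_quot_lt {G : Type*} [Group G] [Finite G] (N : Subgroup G) (hN : N ≠ ⊥) :
    Nat.card (G ⧸ N) < Nat.card G := by
  rw [← N.index_mul_card]
  exact lt_mul_of_one_lt_right (Nat.pos_of_ne_zero Subgroup.FiniteIndex.index_ne_zero)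
    (N.one_lt_card_iff_ne_bot.2 hN)

theorem FS.not_le_of_normal {G : Type*} [Group G] [Finite G] {p q : ℕ} {D : Set (Subgroup G)}
    (h : FS p q D) {A : Subgroup G} (hA : A ∈ D) {N : Subgroup G} [N.Normal] (hN : ¬ A ≤ N) :
    ∀ B ∈ D, ¬ B ≤ (QuotientGroup.mk' N).ker := by
  intro B hB hle
  obtain ⟨x, rfl⟩ := h.exists_conj hB hA
  rw [QuotientGroup.ker_mk'] at hle
  exact hN (map_conj_le_of_mem_normalizer hle (by rw [normalizer_eq_top]; trivial))

theorem struct_aux (p q n : ℕ) : ∀ (G : Type u) [Group G] [Finite G] (D : Set (Subgroup G)),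
    Nat.card G = n → FS p q D → gen D ⊤ = ⊤ → Group.IsSolvable G → ∀ A ∈ D,
    ∃ Q : Subgroup G, Q.Normal ∧ IsPGroup q Q ∧ Q ⊔ A = ⊤ := by
  induction n using Nat.strong_induction_on with
  | _ n ih =>
  intro G _ _ D hn h hg hs A hA
  subst hn
  have hq := Fact.mk h.hq
  obtain ⟨r, hr, hN⟩ := exists_pCore_ne_bot_of_isSolvable (N := (⊤ : Subgroup G)) inferInstance
    (fun e => h.ne_bot hA (le_bot_iff.1 (e ▸ le_top))) ((isSolvable_congr topEquiv).2 hs)
  rw [top_inf_eq] at hN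
  have hR : IsPGroup r (pCore r G) := isPGroup_pCore
  set N := pCore r G
  have := Fact.mk hr
  have nN : ∀ X : Subgroup G, X ≤ N[N] := fun X => by rw [normalizer_eq_top]; exact le_top
  by_cases hAN : A ≤ N
  · refine ⟨⊥, inferInstance, IsPGroup.of_bot, top_le_iff.1 (sub_le hg fun B hB _ => ?_)⟩
    obtain ⟨x, rfl⟩ := h.exists_conj hA hB
    obtain ⟨k, hk⟩ := hR.exists_card_eq
    obtain rfl : p = r := (Nat.prime_dvd_prime_iff_eq h.hp hr).1
      (h.hp.dvd_of_dvd_pow (hk ▸ h.card A hA ▸ card_dvd_of_le hAN))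
    rw [h.eq_of_not_dvd hA hB (X := N) (fun e => h.pq ((Nat.prime_dvd_prime_iff_eq h.hq hr).1
      (h.hq.dvd_of_dvd_pow (hk ▸ e))).symm) hAN (map_conj_le_of_mem_normalizer hAN (nN ⊤ trivial))]
    exact le_sup_right
  have hk := h.not_le_of_normal hA hAN
  have hf := QuotientGroup.mk'_surjective N
  obtain ⟨Q, hQn, hQ, hQA⟩ := ih _ (card_quot_lt N hN) (G ⧸ N) _ rfl (h.map _ hf hk)
    (gen_map_top _ hf hg) inferInstance _ ⟨A, hA, rfl⟩
  set X := Q.comap (QuotientGroup.mk' N)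
  have hXA : X ⊔ A = ⊤ := by
    have := congrArg (comap (QuotientGroup.mk' N)) hQA
    rwa [← comap_sup_eq _ _ _ hf, comap_map_eq, QuotientGroup.ker_mk', comap_top, ← sup_assoc, sup_right_comm,
      sup_eq_left.2 (show N ≤ X from (QuotientGroup.ker_mk' N).ge.trans (ker_le_comap _ _))] at this
  by_cases hrq : r = q
  · subst hrq
    exact ⟨X, inferInstance, hQ.comap_of_ker_isPGroup _ (by rwa [QuotientGroup.ker_mk']), hXA⟩
  have hZ : ⊤ ≤ C[N] := sub_le hg fun B hB _ => le_centralizer_iff.1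
    (h.le_cent_of_ne hB hr hrq hR (nN B) (by simpa using hk B hB))
  obtain ⟨P, hP⟩ := exists_isSylowIn q X
  have hPQ : P.map (QuotientGroup.mk' N) = Q := by
    have h1 := hP.map (QuotientGroup.mk' N)
    rw [map_comap_eq_self_of_surjective hf] at h1
    exact le_antisymm h1.le (h1.le_of_normalizes hQ le_rfl (by rw [normalizer_eq_top]; exact le_top))
  have hPX : P ⊔ N = X := by
    rw [← QuotientGroup.ker_mk' N, ← comap_map_eq, hPQ]
  have hNP : N ≤ C[P] := le_centralizer_iff.1 (le_top.trans hZ)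
  have hXP : X ≤ N[P] := hPX ▸ sup_le le_normalizer (hNP.trans (centralizer_le_normalizer _))
  have hPn : P.Normal := normal_of_top_le_normalizer fun g _ => by
    obtain ⟨k, hk1, hk2⟩ := hP.exists_mul_mem_normalizer (g := g) (by rw [normalizer_eq_top]; trivial)
    simpa using mul_mem (hXP hk1) hk2
  refine ⟨P, hPn, hP.isPGroup, top_le_iff.1 (sub_le hg fun B hB _ => ?_)⟩
  obtain ⟨g, rfl⟩ := h.exists_conj hA hB
  have hg' : g ∈ (P ⊔ A) ⊔ N := by rw [sup_right_comm, hPX, hXA]; trivial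
  obtain ⟨y, hy, n, hn, rfl⟩ := (mem_sup_of_le_normalizer' (nN _)).1 hg'
  rw [← conj_conj, conj_eq_of_mem_centralizer (le_centralizer_iff.1 (le_top.trans hZ) hn)]
  exact conj_le_of_mem le_sup_right hy

variable {G : Type u} [Group G] [Finite G] {p q : ℕ} {D : Set (Subgroup G)} {A B W X Y : Subgroup G}

/-- a solvable subspace with a point -/
structure SS (D : Set (Subgroup G)) (W A : Subgroup G) : Prop where
  sub : gen D W = W
  solv : Group.IsSolvable W
  pt : A ∈ D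
  le : A ≤ W

/-- the derived group -/
scoped notation:max "Q[" W "]" => (⁅W, W⁆ : Subgroup _)
/-- the second derived group -/
scoped notation:max "U[" W "]" => (⁅⁅W, W⁆, ⁅W, W⁆⁆ : Subgroup _)

theorem Q_le (W : Subgroup G) : Q[W] ≤ W := commutator_le_self W
theorem U_le (W : Subgroup G) : U[W] ≤ Q[W] := commutator_le_self _
theorem Q_mono (h : W ≤ X) : Q[W] ≤ Q[X] := commutator_mono h h
theorem U_mono (h : W ≤ X) : U[W] ≤ U[X] := Q_mono (Q_mono h)
theorem norm_Q (W : Subgroup G) : N[W] ≤ N[Q[W]] := le_normalizer_commutator le_rfl le_rfl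
theorem norm_U (W : Subgroup G) : N[W] ≤ N[U[W]] := (norm_Q W).trans (norm_Q _)
theorem le_norm_Q (W : Subgroup G) : W ≤ N[Q[W]] := le_normalizer.trans (norm_Q W)
theorem le_norm_U (W : Subgroup G) : W ≤ N[U[W]] := le_normalizer.trans (norm_U W)

theorem le_norm_of_comm_le (h1 : Q[W] ≤ X) (h2 : X ≤ W) : W ≤ N[X] := fun w hw =>
  pg_mem_normalizer_of_conj_mem fun x hx => by
    have := mul_mem (h1 (commutator_mem_commutator hw (h2 hx))) hx
    simpa [commutatorElement_def] using this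

theorem SS.of_le (s : SS D W A) (hX : gen D X = X) (h1 : A ≤ X) (h2 : X ≤ W) : SS D X A :=
  ⟨hX, isSolvable_of_le h2 s.solv, s.pt, h1⟩

theorem SS.pt' (s : SS D W A) (hB : B ∈ D) (hle : B ≤ W) : SS D W B := ⟨s.sub, s.solv, hB, hle⟩

namespace FS
variable (h : FS p q D)
include h

theorem Q_sup_le (hA : A ∈ D) {R : Subgroup G} (hn : A ≤ N[R]) : Q[R ⊔ A] ≤ R := by
  have h1 : ⁅A, R⁆ ≤ R := commutator_le.2 fun a ha x hx => by
    simpa [commutatorElement_def] using mul_mem (conj_mem_of_mem_normalizer (hn ha) hx) (inv_mem hx)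
  refine commutator_sup_le_left le_normalizer hn
    (commutator_sup_le_right le_normalizer hn (Q_le R) (commutator_comm A R ▸ h1))
    (commutator_sup_le_right le_normalizer hn h1 ?_)
  rw [commutator_eq_bot_iff_le_centralizer.2 (h.le_cent hA)]; exact bot_le

theorem struct (s : SS D W A) : IsPGroup q Q[W] ∧ Q[W] ⊔ A = W ∧ ⁅Q[W], A⁆ = Q[W] := by
  have hA' : (A.subgroupOf W).map W.subtype = A := by
    rw [subgroupOf_map_subtype, inf_eq_left.2 s.le]
  obtain ⟨Q, hQn, hQ, hQA⟩ := struct_aux p q _ W _ rfl (h.comap _ W.subtype_injective)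
    (gen_subtype s.sub) s.solv (A.subgroupOf W) (show _ ∈ D by rw [hA']; exact s.pt)
  have e := congrArg (Subgroup.map W.subtype) hQA
  rw [Subgroup.map_sup, hA', ← MonoidHom.range_eq_map, range_subtype] at e
  set R := Q.map W.subtype
  have hR : IsPGroup q R := hQ.map _
  have hWR : W ≤ N[R] := by
    refine le_trans ?_ (le_normalizer_map W.subtype)
    rw [normalizer_eq_top, ← MonoidHom.range_eq_map, range_subtype]
  have hn : A ≤ N[R] := s.le.trans hWR
  have c := h.cop s.pt hR hn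
  have h1 : W ≤ ⁅R, A⁆ ⊔ A := sub_le s.sub fun B hB hle => by
    obtain ⟨x, hx, rfl⟩ := h.conj_of_le s.pt hR hn (h.card B hB) (e ▸ hle)
    rintro _ ⟨a, ha, rfl⟩
    simpa [commutatorElement_def] using mul_mem_sup (commutator_mem_commutator hx ha) ha
  have h2 : R ≤ ⁅R, A⁆ := fun x hx => by
    obtain ⟨y, hy, a, ha, rfl⟩ := (mem_sup_of_le_normalizer (le_normalizer_commutator_right R A)).1
      (h1 (e ▸ mem_sup_left hx))
    have : a = 1 := c.eq_one_of_mem ha (by simpa using mul_mem (inv_mem (c.commutator_le hy)) hx)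
    simpa [this] using hy
  have h3 : Q[W] = R := le_antisymm (by rw [← e]; exact h.Q_sup_le s.pt hn)
    (h2.trans (commutator_mono (e ▸ le_sup_left) s.le))
  rw [h3]
  exact ⟨hR, e, le_antisymm c.commutator_le h2⟩

theorem qQ (s : SS D W A) : IsPGroup q Q[W] := (h.struct s).1

theorem QA (s : SS D W A) : Q[W] ⊔ A = W := (h.struct s).2.1

theorem le_QA (s : SS D W A) : Q[W] ≤ ⁅Q[W], A⁆ := (h.struct s).2.2.ge

theorem nQ (s : SS D W A) : A ≤ N[Q[W]] := s.le.trans (le_norm_Q W)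

theorem copQ (s : SS D W A) : CoprimeAct A Q[W] := h.cop s.pt (h.qQ s) (h.nQ s)

theorem dec (s : SS D W A) {w : G} (hw : w ∈ W) : ∃ x ∈ Q[W], ∃ a ∈ A, x * a = w :=
  (mem_sup_of_le_normalizer (h.nQ s)).1 ((h.QA s).ge hw)

theorem le_of (s : SS D W A) (h1 : Q[W] ≤ X) (h2 : A ≤ X) : W ≤ X := (h.QA s).ge.trans (sup_le h1 h2)

theorem conj_pt (s : SS D W A) (hB : Nat.card B = p) (hle : B ≤ W) : ∃ x ∈ Q[W], x •ᶜ A = B :=
  h.conj_of_le s.pt (h.qQ s) (h.nQ s) hB (hle.trans (h.QA s).ge)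

theorem pt_of_card (s : SS D W A) (hB : Nat.card B = p) (hle : B ≤ W) : B ∈ D := by
  obtain ⟨x, -, rfl⟩ := h.conj_pt s hB hle
  exact h.inv _ s.pt x

theorem cent_of_norm (s : SS D W A) {x : G} (hx : x ∈ Q[W]) (hn : x ∈ N[A]) : x ∈ C[A] := by
  intro a ha
  have := h.eq_one s.pt (h.qQ s) (x := x * a * x⁻¹ * a⁻¹)
    (mul_mem (conj_mem_of_mem_normalizer hn ha) (inv_mem ha))
    ((h.copQ s).commutator_le (commutator_mem_commutator hx ha))
  exact (commutatorElement_eq_one_iff_mul_comm.1 this).symm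

theorem mem_U (s : SS D W A) {x : G} (hx : x ∈ Q[W]) (hn : x ∈ N[A]) : x ∈ U[W] :=
  commutator_inf_centralizer_le (h.copQ s) ⟨h.le_QA s hx, h.cent_of_norm s hx hn⟩

theorem odd_q {R : Subgroup G} (hR : IsPGroup q R) : ¬ 2 ∣ Nat.card R := by
  have := Fact.mk h.hq
  obtain ⟨k, hk⟩ := hR.exists_card_eq
  rw [hk]
  exact fun e => h.q2 ((Nat.prime_dvd_prime_iff_eq Nat.prime_two h.hq).1
    (Nat.prime_two.dvd_of_dvd_pow e)).symm

theorem odd (s : SS D W A) : ¬ 2 ∣ Nat.card W := by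
  have e := h.card_sup s.pt (h.qQ s) (h.nQ s)
  rw [h.QA s] at e
  rw [e, Nat.prime_two.dvd_mul]
  rintro (e | e)
  · exact h.p2 ((Nat.prime_dvd_prime_iff_eq Nat.prime_two h.hp).1 e).symm
  · exact h.odd_q (h.qQ s) e

theorem line (hA : A ∈ D) (hB : B ∈ D) : SS D (A ⊔ B) A := by
  have := Fact.mk h.hp
  have := Fact.mk h.hq
  obtain ⟨Q, hQ, hn, hle⟩ := h.pair A hA B hB
  refine ⟨gen_line hA hB, isSolvable_of_le (N := A ⊔ Q) (sup_le le_sup_left (hle.trans (sup_comm _ _).le))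
    (isSolvable_sup_of_le_normalizer hn (isSolvable_of_isPGroup (h.pgroup hA))
      (isSolvable_of_isPGroup hQ)), hA, le_sup_left⟩

/-- an element centralizing a point of `W` and normalizing `W` acts trivially on `W / Q` -/
theorem comm_mem_Q (s : SS D W A) {g w : G} (hg : g ∈ C[A]) (hn : g ∈ N[W]) (hw : w ∈ W) :
    g * w * g⁻¹ * w⁻¹ ∈ Q[W] := by
  obtain ⟨x, hx, a, ha, rfl⟩ := h.dec s hw
  have e : g * (x * a) * g⁻¹ * (x * a)⁻¹ = g * x * g⁻¹ * x⁻¹ := by
    rw [← mul_assoc, mul_assoc _ a, ← (Commute.inv_left (hg a ha).symm).eq]; group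
  rw [e]
  exact mul_mem (conj_mem_of_mem_normalizer (norm_Q W hn) hx) (inv_mem hx)

/-- an element centralizing a point centralizes every point it fixes -/
theorem same (hA : A ∈ D) (hB : B ∈ D) {g : G} (hg : g ∈ C[A]) (hn : g ∈ N[B]) : g ∈ C[B] := by
  intro b hb
  have s := h.line hA hB
  have := h.eq_one hB (h.qQ s) (mul_mem (conj_mem_of_mem_normalizer hn hb) (inv_mem hb))
    (h.comm_mem_Q s hg (le_normalizer_sup inf_le_left inf_le_right
      (⟨centralizer_le_normalizer _ hg, hn⟩ : g ∈ N[A] ⊓ N[B])) (mem_sup_right hb))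
  exact (commutatorElement_eq_one_iff_mul_comm.1 this).symm

/-- a `2`-group normalizing a solvable subspace fixes a point of it -/
theorem fix2 (s : SS D W A) {T : Subgroup G} (hT : IsPGroup 2 T) (hn : T ≤ N[W]) :
    ∃ B ∈ D, B ≤ W ∧ T ≤ N[B] := by
  have := Fact.mk h.hp
  obtain ⟨P, hP, hTP⟩ := (CoprimeAct.of_isPGroup hT (h.odd s) hn).exists_isSylowIn p
  have hA := h.sylow s.pt (h.qQ s) (h.nQ s) (h.card A s.pt) le_sup_right
  rw [h.QA s] at hA
  exact ⟨P, h.pt_of_card s ((hP.card_eq_card hA).trans (h.card A s.pt)) hP.le, hP.le, hTP⟩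

/-- points of `W` in a subspace `X ≤ W` -/
theorem mem_of_conj_le (s : SS D W A) (hX : gen D X = X) (h1 : A ≤ X) (h2 : X ≤ W) {x : G}
    (hx : x ∈ Q[W]) (hle : x •ᶜ A ≤ X) : x ∈ Q[X] ⊔ U[W] := by
  obtain ⟨y, hy, e⟩ := h.conj_pt (s.of_le hX h1 h2) ((card_conj x A).trans (h.card A s.pt)) hle
  have : y⁻¹ * x ∈ U[W] := h.mem_U s (mul_mem (inv_mem (Q_mono h2 hy)) hx)
    (by rw [← conj_eq_iff_mem_normalizer, ← conj_conj, ← e, map_conj_inv_map_conj])
  simpa using mul_mem_sup hy this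

theorem eq_of_Q_bot (s : SS D W A) (e : Q[W] = ⊥) : W = A := by
  rw [← h.QA s, e, bot_sup_eq]

end FS

end Cfsg.Lib.FSet
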