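import Cfsg.Agent.Lib.FS.Fin
import Cfsg.Agent.Lib.Coprime.Constrained

/-!
# From a fixed odd group `F` to `FS`
-/

set_option autoImplicit false
set_option linter.unusedSectionVars false

namespace Cfsg.Lib.FSet
open Subgroup Cfsg.Lib Cfsg.Lib.FT
open scoped commutatorElement

universe u
variable {G : Type u} [Group G] [Finite G] {p : ℕ} {D : Set (Subgroup G)} {A B : Subgroup G}

/-- the hypotheses -/
structure Hy (p : ℕ) (D : Set (Subgroup G)) : Prop where
  hp : p.Prime
  p2 : p ≠ 2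
  card : ∀ A ∈ D, Nat.card A = p
  inv : ∀ A ∈ D, ∀ g : G, g •ᶜ A ∈ D
  top : gen D ⊤ = ⊤
  nc : ¬ IsMulCommutative G
  odd : ∀ A ∈ D, ∀ B ∈ D, A ≠ B → Odd (Nat.card ↥(A ⊔ B))
  iso : ∀ A ∈ D, ∀ B ∈ D, A ≠ B → ∀ A' ∈ D, ∀ B' ∈ D, A' ≠ B' → Nonempty (↥(A ⊔ B) ≃* ↥(A' ⊔ B'))

theorem map_top_sub (L : Subgroup G) : (⊤ : Subgroup L).map L.subtype = L := by
  rw [← MonoidHom.range_eq_map, range_subtype]

theorem U_bot_iff (L : Subgroup G) : U[L] = ⊥ ↔ U[(⊤ : Subgroup L)] = ⊥ := by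
  rw [← map_eq_bot_iff_of_injective _ L.subtype_injective, map_commutator, map_commutator, map_top_sub]

namespace Hy
variable (h : Hy p D)
include h

theorem le_cent (hA : A ∈ D) : A ≤ C[A] := fun _ ha _ hb => by
  have := Fact.mk h.hp
  have := isCyclic_of_prime_card (h.card A hA)
  exact comm_of_isMulCommutative IsCyclic.isMulCommutative hb ha

theorem not_all : ¬ ∀ A ∈ D, ∀ B ∈ D, A ≤ C[B] := fun k => by
  have : (⊤ : Subgroup G) ≤ C[(⊤ : Subgroup G)] := sub_le h.top fun A hA _ =>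
    le_centralizer_iff.1 (sub_le h.top fun B hB _ => k B hB A hA)
  exact h.nc ⟨⟨fun a b => this (mem_top b) a (mem_top a)⟩⟩

theorem exists_ne : ∃ A ∈ D, ∃ B ∈ D, A ≠ B := by
  by_contra hc
  push Not at hc
  exact h.not_all fun A hA B hB => hc A hA B hB ▸ h.le_cent hA

theorem not_cent (hA : A ∈ D) (hB : B ∈ D) (hne : A ≠ B) : ¬ A ≤ C[B] := fun k => h.not_all
  fun A' hA' B' hB' => by
    by_cases e : A' = B'
    · exact e ▸ h.le_cent hA'
    obtain ⟨f⟩ := h.iso A hA B hB hne A' hA' B' hB' e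
    have k1 : A ⊔ B ≤ C[A ⊔ B] := by
      rw [centralizer_sup]
      exact sup_le (le_inf (h.le_cent hA) k) (le_inf (le_centralizer_iff.1 k) (h.le_cent hB))
    intro a ha b hb
    obtain ⟨x, hx⟩ := f.surjective ⟨a, mem_sup_left ha⟩
    obtain ⟨y, hy⟩ := f.surjective ⟨b, mem_sup_right hb⟩
    have := congrArg (fun z => (f z : G)) (show y * x = x * y from Subtype.ext (k1 x.2 y y.2))
    simpa [hx, hy] using this

theorem inf_bot (hA : A ∈ D) (hB : B ∈ D) (hne : A ≠ B) : A ⊓ B = ⊥ :=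
  (eq_bot_or_le_of_card h.hp (h.card A hA) B).resolve_right fun e =>
    hne (eq_of_le_of_card_ge e (by rw [h.card A hA, h.card B hB]))

theorem eq_of_norm (hA : A ∈ D) (hB : B ∈ D) (h1 : A ≤ N[B]) (h2 : B ≤ N[A]) : A = B := by
  by_contra hne
  exact h.not_cent hA hB hne (le_centralizer_of_commutator_eq_bot
    (commutator_eq_bot_of_inf_eq_bot h1 h2 (h.inf_bot hA hB hne)))

theorem pgroup (hA : A ∈ D) : IsPGroup p A := IsPGroup.of_card (n := 1) (by rw [h.card A hA, pow_one])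

theorem le_norm (hA : A ∈ D) {P : Subgroup G} (hP : IsPGroup p P) (hle : A ≤ P) : P ≤ N[A] := by
  have := Fact.mk h.hp
  by_contra hc
  obtain ⟨g, hg1, hg2, hg3⟩ := exists_mem_normalizer_not_mem (U := P ⊓ N[A]) hP.isNilpotent
    (lt_of_le_not_ge inf_le_left fun e => hc (e.trans inf_le_right))
  have k : A ≤ P ⊓ N[A] := le_inf hle le_normalizer
  refine hg3 ⟨hg1, conj_eq_iff_mem_normalizer.1 (h.eq_of_norm (h.inv A hA g) hA
    ((map_conj_le_of_mem_normalizer k hg2).trans inf_le_right) ?_)⟩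
  rw [← conj_normalizer, le_conj_iff]
  exact (map_conj_le_of_mem_normalizer k (inv_mem hg2)).trans inf_le_right

theorem exists_R : ∃ A ∈ D, ∃ r : ℕ, r.Prime ∧ r ≠ p ∧ r ≠ 2 ∧ ∃ R : Subgroup G, IsPGroup r R ∧
    A ≤ N[R] ∧ ¬ R ≤ C[A] := by
  have := Fact.mk h.hp
  obtain ⟨A, hA, B, hB, hne⟩ := h.exists_ne
  by_contra hc
  push Not at hc
  have ho := h.odd A hA B hB hne
  set L := A ⊔ B
  have hAL : A ≤ L := le_sup_left
  have nO : ∀ r : ℕ, L ≤ N[(pCore r L).map L.subtype] := fun r => by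
    refine le_trans ?_ (le_normalizer_map L.subtype)
    rw [normalizer_eq_top, map_top_sub]
  have k1 : ¬ A ≤ (pCore p L).map L.subtype := fun e => by
    have hP := (isPGroup_pCoreOf (p := p) L).to_sup_of_normal_left' (h.pgroup hB)
      (le_sup_right.trans (nO p))
    exact hne (h.eq_of_norm hA hB ((e.trans le_sup_left).trans (h.le_norm hB hP le_sup_right))
      (le_sup_right.trans (h.le_norm hA hP (e.trans le_sup_left))))
  have k2 : (fittingSubgroup L).map L.subtype ≤ C[A] := by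
    rw [fitting_eq_iSup_pCore, Subgroup.map_iSup, iSup_le_iff]
    rintro ⟨r, hr⟩
    have := Fact.mk hr
    by_cases e : r = p
    · subst e
      exact le_centralizer_of_commutator_eq_bot' (commutator_eq_bot_of_inf_eq_bot (hAL.trans (nO r))
        (le_sup_left.trans (h.le_norm hA ((isPGroup_pCoreOf (p := r) L).to_sup_of_normal_left'
          (h.pgroup hA) (hAL.trans (nO r))) le_sup_right))
        ((eq_bot_or_le_of_card h.hp (h.card A hA) _).resolve_right k1))
    by_cases e2 : r = 2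
    · subst e2
      by_cases e3 : (pCore 2 L).map L.subtype = ⊥
      · exact e3 ▸ bot_le
      · exact absurd ((dvd_card_of_isPGroup_of_ne_bot (isPGroup_pCoreOf L) e3).trans
          (card_dvd_of_le (map_subtype_le _))) ho.not_two_dvd_nat
    exact hc A hA r hr e e2 _ (isPGroup_pCoreOf L) (hAL.trans (nO r))
  have k3 := (le_inf hAL (le_centralizer_iff.1 k2)).trans
    (inf_centralizer_fittingOf_le (odd_order_solvable ho))
  refine k1 ?_
  rw [← map_subgroupOf_eq_of_le hAL]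
  refine map_mono (le_pCore_of_le_fitting ((h.pgroup hA).comap_subtype) ?_)
  rwa [← map_le_map_iff_of_injective L.subtype_injective, map_subgroupOf_eq_of_le hAL]

theorem inf_R (hA : A ∈ D) {r : ℕ} (hr : r.Prime) (hrp : r ≠ p) {R : Subgroup G} (hR : IsPGroup r R) :
    A ⊓ R = ⊥ := by
  have := Fact.mk hr
  obtain ⟨k, hk⟩ := hR.exists_card_eq
  exact (eq_bot_or_le_of_card h.hp (h.card A hA) R).resolve_right fun e => hrp
    ((Nat.prime_dvd_prime_iff_eq h.hp hr).1 (h.hp.dvd_of_dvd_pow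
      (hk ▸ h.card A hA ▸ card_dvd_of_le e))).symm

theorem exists_x (hA : A ∈ D) {r : ℕ} (hr : r.Prime) (hrp : r ≠ p) {R : Subgroup G} (hR : IsPGroup r R)
    (hn : A ≤ N[R]) (hc : ¬ R ≤ C[A]) : ∃ B ∈ D, A ≠ B ∧ A ⊔ B ≤ R ⊔ A := by
  by_contra hc'
  push Not at hc'
  refine hc (le_centralizer_of_commutator_eq_bot' (commutator_eq_bot_of_inf_eq_bot hn (fun x hx => ?_)
    (h.inf_R hA hr hrp hR)))
  by_contra e
  exact hc' _ (h.inv A hA x) (fun e' => e (conj_eq_iff_mem_normalizer.1 e'.symm))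
    (sup_le le_sup_right (conj_le_of_mem le_sup_right (mem_sup_left hx)))

theorem exists_fs : ∃ q, FS p q D := by
  obtain ⟨A, hA, r, hr, hrp, hr2, R, hR, hn, hc⟩ := h.exists_R
  obtain ⟨B, hB, hne, hle⟩ := h.exists_x hA hr hrp hR hn hc
  refine ⟨r, h.hp, hr, h.p2, hr2, hrp.symm, h.card, h.inv, fun A' hA' B' hB' => ?_⟩
  by_cases e : A' = B'
  · exact ⟨⊥, IsPGroup.of_bot, by rw [normalizer_eq_top]; exact le_top, e ▸ le_sup_right⟩
  obtain ⟨f⟩ := h.iso A hA B hB hne A' hA' B' hB' e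
  set L := A ⊔ B
  have nL : L ≤ N[R] := hle.trans (sup_le le_normalizer hn)
  have := normal_subgroupOf_of_le_normalizer nL
  have c1 := card_sup_mul_card_inf (X := A) (Y := R ⊓ L) (le_normalizer_inf hn
    (le_sup_left.trans le_normalizer))
  rw [← sup_inf_assoc_of_le_normalizer hn le_sup_left, inf_eq_right.2 (hle.trans (sup_comm _ _).le),
    h.inf_R hA hr hrp (hR.to_le inf_le_left), card_bot, mul_one, h.card A hA] at c1
  set Q := ((R.subgroupOf L).map f.toMonoidHom).map (A' ⊔ B').subtype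
  have hQ : IsPGroup r Q := (hR.comap_subtype.map _).map _
  have nQ : A' ⊔ B' ≤ N[Q] := by
    have : ((R.subgroupOf L).map f.toMonoidHom).Normal := Normal.map inferInstance _ f.surjective
    refine le_trans ?_ (le_normalizer_map _)
    rw [normalizer_eq_top, map_top_sub]
  have c2 := card_sup_mul_card_inf (le_sup_left.trans nQ)
  rw [h.inf_R hA' hr hrp hQ, card_bot, mul_one, h.card A' hA', card_map_of_injective (subtype_injective _),
    card_map_of_injective f.injective, ← card_map_of_injective L.subtype_injective,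
    subgroupOf_map_subtype, ← c1, Nat.card_congr f.toEquiv] at c2
  refine ⟨Q, hQ, le_sup_left.trans nQ, (le_sup_right : B' ≤ A' ⊔ B').trans ?_⟩
  rw [sup_comm Q]
  exact (eq_of_le_of_card_ge (sup_le le_sup_left (map_subtype_le _)) c2.ge).ge

theorem one_or_two {q : ℕ} (f : FS p q D) : One D ∨ Two D := by
  by_contra hc
  push Not at hc
  refine hc.2 (f.two fun A hA R hR hn hab => ?_)
  by_contra hR'
  obtain ⟨B, hB, hne, hle⟩ := h.exists_x hA f.hq f.pq.symm hR hn hR'
  have k : U[A ⊔ B] = ⊥ := le_bot_iff.1 (hab ▸ Q_mono ((Q_mono hle).trans (f.Q_sup_le hA hn)))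
  refine hc.1 fun A' hA' B' hB' => ?_
  by_cases e : A' = B'
  · rw [← e, sup_idem, commutator_eq_bot_iff_le_centralizer.2 (h.le_cent hA'), commutator_bot_left]
  obtain ⟨e⟩ := h.iso A hA B hB hne A' hA' B' hB' e
  rw [U_bot_iff] at k ⊢
  rw [← map_top_of_surjective e.toMonoidHom e.surjective, ← map_commutator, ← map_commutator, k,
    Subgroup.map_bot]

theorem main : Odd (Nat.card (G ⧸ center G)) ∧ ∃ H : Subgroup (G ⧸ center G), IsFrobeniusComplement H := by
  obtain ⟨q, f⟩ := h.exists_fs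
  obtain ⟨A, hA, B, hB, hne⟩ := h.exists_ne
  obtain ⟨k1, k2⟩ := f.norm_le h.top (h.one_or_two f) hA
  refine ⟨Nat.odd_iff.2 (Nat.two_dvd_ne_zero.1 fun e => k1 (e.trans (card_quotient_dvd_card _))),
    A.map (QuotientGroup.mk' _), ?_, ?_, ?_⟩
  · intro e
    rw [Subgroup.map_eq_bot_iff, QuotientGroup.ker_mk'] at e
    exact h.not_cent hA hB hne (e.trans (center_le_centralizer _))
  · intro e
    have := congrArg (comap (QuotientGroup.mk' _)) e
    rw [comap_map_eq, QuotientGroup.ker_mk', comap_top] at this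
    exact h.not_cent hB hA hne.symm (le_top.trans (this.ge.trans
      (sup_le (h.le_cent hA) (center_le_centralizer _))))
  · intro g hg
    obtain ⟨g, rfl⟩ := QuotientGroup.mk'_surjective _ g
    rw [eq_bot_iff]
    rintro _ ⟨⟨a, ha, rfl⟩, h2⟩
    by_contra h1
    have ha1 : a ≠ 1 := fun e => h1 (by simp [e])
    replace h2 : _ ∈ QuotientGroup.mk' _ g •ᶜ A.map (QuotientGroup.mk' (center G)) := h2
    rw [mem_map_conj, ← map_inv, ← map_mul, ← map_mul, ← mem_comap,
      comap_map_eq, QuotientGroup.ker_mk'] at h2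
    have h3 : g⁻¹ •ᶜ A ≤ C[A] := by
      rw [← f.eq_zpowers hA ha ha1, conj_zpowers, zpowers_le, inv_inv, f.eq_zpowers hA ha ha1]
      exact sup_le (h.le_cent hA) (center_le_centralizer _) h2
    have h4 : g⁻¹ •ᶜ A = A := by
      by_contra e
      exact h.not_cent (h.inv A hA _) hA e h3
    refine hg ?_
    rw [← mem_comap, comap_map_eq, QuotientGroup.ker_mk', sup_comm]
    exact k2 (inv_mem_iff.1 (conj_eq_iff_mem_normalizer.1 h4))

end Hy

end Cfsg.Lib.FSet
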