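import Cfsg.Agent.Lib.FS.Defs

/-!
# Passing to quotients and subgroups
-/

set_option autoImplicit false
set_option linter.unusedSectionVars false

namespace Cfsg.Lib.FSet
open Subgroup Cfsg.Lib Cfsg.Lib.FT
open scoped commutatorElement

variable {G G' : Type*} [Group G] [Group G'] {p q : ℕ} {D : Set (Subgroup G)}

theorem map_conj' (f : G →* G') (g : G) (A : Subgroup G) : (g •ᶜ A).map f = f g •ᶜ A.map f := by
  rw [map_map, map_map]; congr 1; ext x; simp

theorem FS.map [Finite G] (h : FS p q D) (f : G →* G') (hf : Function.Surjective f)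
    (hk : ∀ A ∈ D, ¬ A ≤ f.ker) : FS p q (Subgroup.map f '' D) := by
  refine ⟨h.hp, h.hq, h.p2, h.q2, h.pq, ?_, ?_, ?_⟩
  · rintro _ ⟨A, hA, rfl⟩
    have e := relIndex_mul_card_inf f.ker A
    rw [inf_comm, (eq_bot_or_le_of_card h.hp (h.card A hA) _).resolve_right (hk A hA), card_bot,
      mul_one, relIndex_ker, h.card A hA] at e
    exact e
  · rintro _ ⟨A, hA, rfl⟩ g
    obtain ⟨g, rfl⟩ := hf g
    exact ⟨_, h.inv A hA g, map_conj' f g A⟩
  · rintro _ ⟨A, hA, rfl⟩ _ ⟨B, hB, rfl⟩
    obtain ⟨Q, hQ, hn, hle⟩ := h.pair A hA B hB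
    exact ⟨Q.map f, hQ.map f, (map_mono hn).trans (le_normalizer_map f),
      (map_mono hle).trans (map_sup _ _ f).le⟩

theorem gen_map (f : G →* G') (W : Subgroup G') :
    gen (Subgroup.map f '' D) W = (gen D (W.comap f)).map f := by
  apply le_antisymm
  · rw [gen_le_iff]
    rintro _ ⟨A, hA, rfl⟩ hle
    exact map_mono (le_gen hA (map_le_iff_le_comap.1 hle))
  · rw [map_le_iff_le_comap, gen_le_iff]
    intro A hA hle
    exact map_le_iff_le_comap.1 (le_gen ⟨A, hA, rfl⟩ (map_le_iff_le_comap.2 hle))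

theorem gen_map_top (f : G →* G') (hf : Function.Surjective f) (h : gen D ⊤ = ⊤) :
    gen (Subgroup.map f '' D) ⊤ = ⊤ := by
  rw [gen_map, comap_top, h, map_top_of_surjective f hf]

theorem One.map (h : One D) (f : G →* G') : One (Subgroup.map f '' D) := by
  rintro _ ⟨A, hA, rfl⟩ _ ⟨B, hB, rfl⟩
  rw [← Subgroup.map_sup, ← map_commutator, ← map_commutator, h A hA B hB, Subgroup.map_bot]

theorem Two.map (h : Two D) (f : G →* G') (hs : Group.IsSolvable f.ker) :
    Two (Subgroup.map f '' D) := by
  intro W hW hsW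
  have := h _ gen_gen (isSolvable_of_le gen_le (isSolvable_comap f W hs hsW))
  rw [← hW, gen_map, ← map_commutator, ← map_commutator, ← map_commutator, this, Subgroup.map_bot]

theorem FS.comap (h : FS p q D) (f : G' →* G) (hf : Function.Injective f) :
    FS p q {B | B.map f ∈ D} := by
  refine ⟨h.hp, h.hq, h.p2, h.q2, h.pq, ?_, ?_, ?_⟩
  · intro A hA
    rw [← card_map_of_injective hf, h.card _ hA]
  · intro A hA g
    show _ ∈ D
    rw [map_conj']; exact h.inv _ hA _
  · intro A hA B hB
    obtain ⟨Q, hQ, hn, hle⟩ := h.pair _ hA _ hB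
    refine ⟨Q.comap f, hQ.comap_of_injective f hf,
      (map_le_iff_le_comap.1 hn).trans (le_normalizer_comap f), fun b hb => ?_⟩
    obtain ⟨x, hx, _, ⟨a, ha, rfl⟩, e⟩ := (mem_sup_of_le_normalizer hn).1 (hle ⟨b, hb, rfl⟩)
    have : b * a⁻¹ ∈ Q.comap f := by rw [mem_comap, map_mul, map_inv, ← e]; simpa using hx
    simpa using mul_mem_sup this ha

theorem gen_comap (f : G' →* G) (X : Subgroup G') :
    (gen {B | B.map f ∈ D} X).map f ≤ gen D (X.map f) := by
  rw [map_le_iff_le_comap, gen_le_iff]
  intro A hA hle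
  exact map_le_iff_le_comap.1 (le_gen hA (map_mono hle))

theorem gen_comap' (f : G' →* G) (hf : Function.Injective f) (X : Subgroup G') :
    (gen {B | B.map f ∈ D} X).map f = gen D (X.map f) := by
  refine le_antisymm (gen_comap f X) (gen_le_iff.2 fun A hA hle => ?_)
  have e : (A.comap f).map f = A := map_comap_eq_self (hle.trans (map_le_range f X))
  rw [← e]
  refine map_mono (le_gen (show _ ∈ D by rwa [e]) ?_)
  rwa [← map_le_map_iff_of_injective hf, e]

theorem gen_subtype {W : Subgroup G} (hW : gen D W = W) : gen {B | B.map W.subtype ∈ D} ⊤ = ⊤ := by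
  apply map_injective W.subtype_injective
  rw [gen_comap' _ W.subtype_injective, ← MonoidHom.range_eq_map, range_subtype, hW]

theorem One.comap (h : One D) (f : G' →* G) (hf : Function.Injective f) : One {B | B.map f ∈ D} := by
  intro A hA B hB
  rw [← map_eq_bot_iff_of_injective _ hf, map_commutator, map_commutator, Subgroup.map_sup]
  exact h _ hA _ hB

theorem Two.comap (h : Two D) (f : G' →* G) (hf : Function.Injective f) : Two {B | B.map f ∈ D} := by
  intro W hW hs
  rw [← map_eq_bot_iff_of_injective _ hf, map_commutator, map_commutator, map_commutator]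
  exact h _ (by rw [← gen_comap' f hf, hW]) (isSolvable_map f W hs)

end Cfsg.Lib.FSet
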